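import Cfsg.Agent.QtkePush.AThree.Frame
import Cfsg.Agent.QtkePush.Sections

/-!
# Choosing the six images

The part `six` of the Sylow subgroup fixing the six centralisers normalises suitable blocks; this
gives a frame.
-/

set_option autoImplicit false
set_option linter.unusedSectionVars false
set_option linter.style.haveILetI false

namespace Cfsg.Agent.QtkePush.AThree

open Subgroup
open scoped commutatorElement

universe u

variable {G : Type u} [Group G] [Finite G]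

local notation "cj[" g "]" => MulEquiv.toMonoidHom (MulAut.conj g)

variable {T : Sylow 2 G} {M R E W : Subgroup G} {t : G}

/-- The elements of `T` fixing the six centralisers. -/
def fixer (N : Six T M R E W t) : Subgroup G :=
  (T : Subgroup G) ⊓ ⨅ i, ⨅ b, normalizer (dd R W (N.g i b) : Set G)

section

variable (P : PairSys T M R E W t) (w : Tw M R W) (N : Six T M R E W t)
include P w

theorem mem_fixer {s : G} : s ∈ fixer N ↔
    s ∈ (T : Subgroup G) ∧ ∀ i b, dd R W (s * N.g i b) = dd R W (N.g i b) := by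
  simp only [fixer, mem_inf, Subgroup.mem_iInf]
  refine and_congr_right fun hs => forall_congr' fun i => forall_congr' fun b => ?_
  rw [mem_normalizer_iff_map_conj_eq]
  show (dd R W (N.g i b)).map cj[s] = _ ↔ _
  rw [w.dd_translate (P.hTM hs)]

theorem exists_image {s : G} (hs : s ∈ (T : Subgroup G)) (i : Fin 3) (b : Bool) :
    ∃ j c, dd R W (s * N.g i b) = dd R W (N.g j c) := by
  by_cases hi : i = 0
  · subst hi
    exact ⟨0, N.fix0 s hs b⟩
  by_cases hE : s ∈ normalizer (E : Set G)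
  · exact ⟨i, b, N.inN s hs hE i b hi⟩
  · obtain rfl | rfl : i = 1 ∨ i = 2 := by omega
    · exact ⟨2, b, (N.notN s hs hE b).1⟩
    · exact ⟨1, b, (N.notN s hs hE b).2⟩

theorem conj_mem_fixer {s u : G} (hs : s ∈ fixer N) (hu : u ∈ (T : Subgroup G)) :
    u⁻¹ * s * u ∈ fixer N := by
  obtain ⟨hsT, hs⟩ := (mem_fixer P w N).1 hs
  refine (mem_fixer P w N).2 ⟨mul_mem (mul_mem (inv_mem hu) hsT) hu, fun i b => ?_⟩
  obtain ⟨j, c, e⟩ := exists_image P w N hu i b
  have huM := P.hTM hu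
  have h1 := w.dd_mul_congr (mul_mem (inv_mem huM) (P.hTM hsT)) e
  have h2 := w.dd_mul_congr (inv_mem huM) (hs j c)
  have h3 := w.dd_mul_congr (inv_mem huM) e.symm
  rw [show u⁻¹ * s * u * N.g i b = u⁻¹ * s * (u * N.g i b) by group, h1, mul_assoc, h2, h3,
    inv_mul_cancel_left]

theorem R_le_fixer : R ≤ fixer N := by
  intro r hr
  refine (mem_fixer P w N).2 ⟨P.hRT hr, fun i b => ?_⟩
  show R ⊓ centralizer (img W (r * N.g i b) : Set G) = R ⊓ centralizer (img W (N.g i b) : Set G)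
  rw [← img_img, show (img W (N.g i b)).map cj[r] = img W (N.g i b) from
    mem_normalizer_iff_map_conj_eq.1 (w.R_le_normalizer_img (N.mem i b) hr)]

theorem fixer_le : fixer N ≤ (T : Subgroup G) ⊓ normalizer (E : Set G) := by
  intro s hs
  obtain ⟨hsT, hs⟩ := (mem_fixer P w N).1 hs
  refine ⟨hsT, by_contra fun h => ?_⟩
  have h1 := (hs 1 false).symm.trans (N.notN s hsT h false).1
  exact absurd (N.inj _ _ _ _ h1).1 (by decide)

/-- An element of the stabiliser moving `h⁻¹ S h` into `T ⊓ N(E)`. -/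
theorem exists_conjugator {Q : Subgroup G} (hQ : IsPGroup 2 Q) (hQs : Q ≤ w.stab) :
    ∃ k ∈ w.stab, ∀ q ∈ Q, k⁻¹ * q * k ∈ (T : Subgroup G) ⊓ normalizer (E : Set G) := by
  haveI : Fact (Nat.Prime 2) := ⟨Nat.prime_two⟩
  set T0 := (T : Subgroup G) ⊓ normalizer (E : Set G) with hT0
  have hT0s : T0 ≤ w.stab := P.le_stab w
  obtain ⟨a, ha, ha1⟩ := P.mov
  obtain ⟨U, -, -, hU⟩ := w.exists_pairStab ha ha1
  have hT0p : IsPGroup 2 ↥(T0.subgroupOf w.stab) :=
    (T.isPGroup'.to_le inf_le_left).comap_of_injective _ w.stab.subtype_injective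
  obtain ⟨S₀, hS₀⟩ := hT0p.exists_le_sylow
  have hcard : Nat.card (S₀ : Subgroup ↥w.stab) ≤ Nat.card T0 := by
    obtain ⟨n, hn⟩ := IsPGroup.iff_card.1 S₀.isPGroup'
    have h1 : 2 * 2 ^ n ∣ Nat.card G := by
      rw [← hn]
      refine (Nat.mul_dvd_mul_left 2 (Subgroup.card_subgroup_dvd_card _)).trans ?_
      rw [← hU]
      exact Subgroup.card_subgroup_dvd_card U
    rw [← pow_succ', Nat.Prime.pow_dvd_iff_le_factorization Nat.prime_two Nat.card_pos.ne'] at h1
    have h2 := P.card_T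
    rw [T.card_eq_multiplicity] at h2
    have h3 : 2 ^ (n + 1) ≤ 2 * Nat.card T0 := h2 ▸ Nat.pow_le_pow_right two_pos h1
    rw [hn]
    rw [pow_succ'] at h3
    omega
  have hS₀e : (S₀ : Subgroup ↥w.stab) = T0.subgroupOf w.stab :=
    (eq_of_le_of_card_ge hS₀ (hcard.trans
      (Nat.card_congr (Subgroup.subgroupOfEquivOfLe hT0s).toEquiv).ge)).symm
  obtain ⟨S₁, hS₁⟩ := (hQ.comap_of_injective w.stab.subtype w.stab.subtype_injective).exists_le_sylow
  obtain ⟨k, hk⟩ := MulAction.exists_smul_eq ↥w.stab S₀ S₁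
  refine ⟨k, k.2, fun q hq => ?_⟩
  have h1 : (⟨q, hQs hq⟩ : ↥w.stab) ∈ (S₁ : Subgroup ↥w.stab) := hS₁ hq
  rw [← hk, Sylow.coe_subgroup_smul] at h1
  obtain ⟨y, hy, e⟩ := h1
  rw [SetLike.mem_coe, hS₀e, mem_subgroupOf] at hy
  have e' := congrArg Subtype.val e
  simp only [MulDistribMulAction.toMonoidEnd_apply, MulDistribMulAction.toMonoidHom_apply,
    MulAut.smul_def, MulAut.conj_apply, Subgroup.coe_mul, Subgroup.coe_inv] at e'
  show (k : G)⁻¹ * q * k ∈ T0
  rw [← e']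
  simpa [mul_assoc] using hy

include N in
/-- Six images whose blocks are normalised by the fixer. -/
theorem exists_adjusted : ∃ N' : Six T M R E W t, ∀ i b, ∀ s ∈ fixer N',
    (N'.g i b)⁻¹ * s * N'.g i b ∈ (T : Subgroup G) ⊓ normalizer (E : Set G) := by
  classical
  have hex : ∀ i b, ∃ k ∈ w.stab, ((i = 1 ∧ b = false) ∨ (i = 2 ∧ b = false) → k = 1) ∧
      ∀ s ∈ fixer N, (N.g i b * k)⁻¹ * s * (N.g i b * k) ∈
        (T : Subgroup G) ⊓ normalizer (E : Set G) := by
    intro i b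
    by_cases hspec : (i = 1 ∧ b = false) ∨ (i = 2 ∧ b = false)
    · refine ⟨1, one_mem _, fun _ => rfl, fun s hs => ?_⟩
      rcases hspec with ⟨rfl, rfl⟩ | ⟨rfl, rfl⟩
      · simpa [N.g1] using fixer_le P w N hs
      · simpa [N.g2] using fixer_le P w N (conj_mem_fixer P w N hs P.ht)
    · set h := N.g i b
      obtain ⟨k, hk, hk'⟩ := exists_conjugator P w (Q := (fixer N).map cj[h⁻¹])
        ((T.isPGroup'.to_le (inf_le_left : fixer N ≤ _)).map _) (by
          rintro _ ⟨s, hs, rfl⟩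
          obtain ⟨hsT, hsD⟩ := (mem_fixer P w N).1 hs
          refine w.mem_stab_iff.2 ⟨?_, ?_⟩
          · show h⁻¹ * s * h⁻¹⁻¹ ∈ M
            exact mul_mem (mul_mem (inv_mem (N.mem i b)) (P.hTM hsT)) (inv_mem (inv_mem (N.mem i b)))
          · show dd R W (h⁻¹ * s * h⁻¹⁻¹) = _
            have := w.dd_mul_congr (inv_mem (N.mem i b)) (hsD i b)
            rw [inv_mul_cancel] at this
            rw [inv_inv, mul_assoc]
            exact this)
      refine ⟨k, hk, fun h' => absurd h' hspec, fun s hs => ?_⟩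
      have := hk' (h⁻¹ * s * h⁻¹⁻¹) ⟨s, hs, rfl⟩
      simpa [mul_assoc] using this
  choose k hks hk1 hk using hex
  have hkM : ∀ i b, k i b ∈ M := fun i b => (w.mem_stab_iff.1 (hks i b)).1
  have hmem : ∀ i b, N.g i b * k i b ∈ M := fun i b => mul_mem (N.mem i b) (hkM i b)
  have e : ∀ i b, dd R W (N.g i b * k i b) = dd R W (N.g i b) := fun i b => by
    simpa using w.dd_mul_congr (N.mem i b) (w.mem_stab_iff.1 (hks i b)).2
  have ac : ∀ i b j c, Apart W (N.g i b * k i b) (N.g j c * k j c) ↔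
      Apart W (N.g i b) (N.g j c) := fun i b j c => by
    rw [w.apart_congr (hmem i b) (e j c)]
    exact ⟨fun h => ((w.apart_congr (N.mem j c) (e i b)).1 h.symm).symm,
      fun h => ((w.apart_congr (N.mem j c) (e i b)).2 h.symm).symm⟩
  have es : ∀ s ∈ M, ∀ i b, dd R W (s * (N.g i b * k i b)) = dd R W (s * N.g i b) :=
    fun s hs i b => w.dd_mul_congr hs (e i b)
  let N' : Six T M R E W t :=
    { g := fun i b => N.g i b * k i b
      mem := hmem
      own := fun i b h => N.own i b ((ac _ _ _ _).1 h)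
      cross := fun i j b c hij => (ac _ _ _ _).2 (N.cross i j b c hij)
      inj := fun i j b c h => N.inj i j b c (by rwa [e, e] at h)
      g1 := by rw [hk1 1 false (Or.inl ⟨rfl, rfl⟩), mul_one, N.g1]
      g2 := by rw [hk1 2 false (Or.inr ⟨rfl, rfl⟩), mul_one, N.g2]
      inN := fun s hs hE i b hi => by rw [es s (P.hTM hs), e]; exact N.inN s hs hE i b hi
      notN := fun s hs hE b => by
        rw [es s (P.hTM hs), es s (P.hTM hs), e, e]
        exact N.notN s hs hE b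
      fix0 := fun s hs b => by
        obtain ⟨c, hc⟩ := N.fix0 s hs b
        exact ⟨c, by rw [es s (P.hTM hs), e]; exact hc⟩
      flip := by
        obtain ⟨s, hs, h⟩ := N.flip
        exact ⟨s, hs, by rw [es s (P.hTM hs), e]; exact h⟩ }
  have hfix : fixer N' = fixer N := by
    unfold fixer
    refine congrArg _ (iInf_congr fun i => iInf_congr fun b => ?_)
    rw [show N'.g i b = N.g i b * k i b from rfl, e]
  exact ⟨N', fun i b s hs => hk i b s (hfix ▸ hs)⟩

end

/-- Six adjusted images of a block of degree three. -/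
structure Setting (T : Sylow 2 G) (M R E W : Subgroup G) (t : G) where
  P : PairSys T M R E W t
  w : Tw M R W
  fo : FixOne R E W
  x₀ : G
  l₀ : G
  m₀ : G
  a4 : A4 R E W x₀ l₀ m₀
  N : Six T M R E W t
  adj : ∀ i b, ∀ s ∈ fixer N, (N.g i b)⁻¹ * s * N.g i b ∈ (T : Subgroup G) ⊓ normalizer (E : Set G)

namespace Setting

variable (Z : Setting T M R E W t)

/-- The fixed involution of a pair. -/
def L (i : Fin 3) : G := Z.N.g i false * Z.l₀ * (Z.N.g i false)⁻¹

/-- The moved involution of an image. -/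
def mb (i : Fin 3) (b : Bool) : G := Z.N.g i b * Z.m₀ * (Z.N.g i b)⁻¹

/-- The element of order three of an image. -/
def xb (i : Fin 3) (b : Bool) : G := Z.N.g i b * Z.x₀ * (Z.N.g i b)⁻¹

theorem sq_facts : Z.l₀ * Z.l₀ = 1 ∧ Z.m₀ * Z.m₀ = 1 := by
  have ha := Z.a4
  have hl : Z.l₀ * Z.l₀ = 1 := by
    have cj2 : Z.x₀ * (Z.l₀ * Z.l₀) * Z.x₀⁻¹ = Z.m₀ * Z.m₀ := by rw [← ha.xl]; group
    rcases ha.mem _ (mul_mem ha.lW ha.lW) with e | e | e | e
    · exact e
    · exact absurd (mul_eq_left.1 e) ha.l1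
    · exfalso
      rw [e, ha.xm] at cj2
      exact ha.lm (mul_right_cancel cj2)
    · exact absurd (mul_left_cancel e) ha.lm
  refine ⟨hl, ?_⟩
  calc Z.m₀ * Z.m₀ = Z.x₀ * (Z.l₀ * Z.l₀) * Z.x₀⁻¹ := by rw [← ha.xl]; group
    _ = 1 := by rw [hl]; group

theorem L_cent (i : Fin 3) : Z.L i ∈ centralizer (R : Set G) :=
  Z.w.conj_cent (Z.N.mem i false) Z.a4.lR

theorem L_ne (i : Fin 3) : Z.L i ≠ 1 := fun e => Z.a4.l1 (conj_eq_one_iff.1 e)

theorem lb_eq (i : Fin 3) (b : Bool) : Z.N.g i b * Z.l₀ * (Z.N.g i b)⁻¹ = Z.L i := by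
  cases b
  · rfl
  have h1 : Z.N.g i true * Z.l₀ * (Z.N.g i true)⁻¹ ∈ centralizer (R : Set G) :=
    Z.w.conj_cent (Z.N.mem i true) Z.a4.lR
  have h2 : Z.N.g i true * Z.l₀ * (Z.N.g i true)⁻¹ ≠ 1 := fun e => Z.a4.l1 (conj_eq_one_iff.1 e)
  exact fixed_unique Z.P Z.w Z.fo (Z.N.mem i false)
    (fixed_mem_of_moving Z.P Z.w Z.fo (Z.N.mem i true) (Z.N.mem i false) (Z.N.own i true)
      (conj_mem_img _ Z.a4.lW) h2 h1)
    (conj_mem_img _ Z.a4.lW) h2 (Z.L_ne i) h1 (Z.L_cent i)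

theorem L_mem (i : Fin 3) (b : Bool) : Z.L i ∈ img W (Z.N.g i b) := by
  rw [← Z.lb_eq i b]
  exact conj_mem_img _ Z.a4.lW

theorem mb_mem (i : Fin 3) (b : Bool) : Z.mb i b ∈ img W (Z.N.g i b) := conj_mem_img _ Z.a4.mW

theorem xb_mem (i : Fin 3) (b : Bool) : Z.xb i b ∈ img E (Z.N.g i b) := conj_mem_img _ Z.a4.xE

theorem mem_W {i : Fin 3} {b : Bool} {v : G} (hv : v ∈ img W (Z.N.g i b)) :
    v = 1 ∨ v = Z.L i ∨ v = Z.mb i b ∨ v = Z.L i * Z.mb i b := by
  obtain ⟨u, hu, rfl⟩ := hv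
  rw [← Z.lb_eq i b]
  rcases Z.a4.mem u hu with rfl | rfl | rfl | rfl
  · exact Or.inl (map_one _)
  · exact Or.inr (Or.inl rfl)
  · exact Or.inr (Or.inr (Or.inl rfl))
  · exact Or.inr (Or.inr (Or.inr (map_mul _ _ _)))

theorem L_sq (i : Fin 3) : Z.L i * Z.L i = 1 := by
  rw [L, show ∀ a b : G, a * b * a⁻¹ * (a * b * a⁻¹) = a * (b * b) * a⁻¹ from fun a b => by group,
    Z.sq_facts.1, mul_one, mul_inv_cancel]

theorem mb_sq (i : Fin 3) (b : Bool) : Z.mb i b * Z.mb i b = 1 := by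
  rw [mb, show ∀ a b : G, a * b * a⁻¹ * (a * b * a⁻¹) = a * (b * b) * a⁻¹ from fun a b => by group,
    Z.sq_facts.2, mul_one, mul_inv_cancel]

theorem mb_ne (i : Fin 3) (b : Bool) : Z.mb i b ≠ 1 ∧ Z.L i ≠ Z.mb i b := by
  refine ⟨fun e => Z.a4.m1 (conj_eq_one_iff.1 e), fun e => Z.a4.lm ?_⟩
  rw [← Z.lb_eq i b] at e
  exact mul_left_cancel (mul_right_cancel e)

theorem xb3 (i : Fin 3) (b : Bool) : Z.xb i b ^ 3 = 1 := by
  rw [xb, conj_pow, Z.a4.x3, mul_one, mul_inv_cancel]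

theorem xb_L (i : Fin 3) (b : Bool) : Z.xb i b * Z.L i * (Z.xb i b)⁻¹ = Z.mb i b := by
  rw [← Z.lb_eq i b, mb, xb, ← Z.a4.xl]
  group

theorem xb_mb (i : Fin 3) (b : Bool) :
    Z.xb i b * Z.mb i b * (Z.xb i b)⁻¹ = Z.L i * Z.mb i b := by
  rw [← Z.lb_eq i b, mb, xb]
  calc _ = Z.N.g i b * (Z.x₀ * Z.m₀ * Z.x₀⁻¹) * (Z.N.g i b)⁻¹ := by group
    _ = _ := by rw [Z.a4.xm]; group

theorem gen_xb {i : Fin 3} {b : Bool} {e : G} (he : e ∈ img E (Z.N.g i b)) :
    ∃ v ∈ img W (Z.N.g i b), ∃ k : ℕ, k < 3 ∧ e = v * Z.xb i b ^ k := by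
  obtain ⟨u, hu, rfl⟩ := he
  obtain ⟨v, hv, k, rfl⟩ := Z.a4.gen u hu
  refine ⟨_, conj_mem_img _ hv, k % 3, Nat.mod_lt _ (by decide), ?_⟩
  rw [← pow_eq_pow_mod k (Z.xb3 i b), xb, conj_pow]
  show Z.N.g i b * (v * Z.x₀ ^ k) * (Z.N.g i b)⁻¹ = _
  group

theorem img_comm (i : Fin 3) (b : Bool) {a c : G} (ha : a ∈ img W (Z.N.g i b))
    (hc : c ∈ img W (Z.N.g i b)) : a * c = c * a :=
  (mem_centralizer_iff.1 (Z.w.apart_self (g := Z.N.g i b) ha) c hc).symm

theorem cross_comm {i j : Fin 3} (hij : i ≠ j) (b c : Bool) {a v : G}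
    (ha : a ∈ img W (Z.N.g i b)) (hv : v ∈ img W (Z.N.g j c)) : a * v = v * a :=
  (mem_centralizer_iff.1 (Z.N.cross i j b c hij ha) v hv).symm

theorem R_of_img {i : Fin 3} {b : Bool} {v : G} (hv : v ∈ img W (Z.N.g i b)) : v ∈ R :=
  Z.w.img_le_R (Z.N.mem i b) hv

theorem L_comm {v : G} (hv : v ∈ R) (i : Fin 3) : Z.L i * v = v * Z.L i :=
  (mem_centralizer_iff.1 (Z.L_cent i) v hv).symm

/-- The involution of the partner. -/
abbrev zz' (i : Fin 3) : G := Z.mb i true

theorem z_conj (i : Fin 3) :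
    Z.zz' i * Z.mb i false * (Z.zz' i)⁻¹ = Z.L i * Z.mb i false := by
  have hzR : Z.zz' i ∈ R := Z.R_of_img (Z.mb_mem i true)
  have hmem : Z.zz' i * Z.mb i false * (Z.zz' i)⁻¹ ∈ img W (Z.N.g i false) :=
    (mem_normalizer_iff.1 (Z.w.R_le_normalizer_img (Z.N.mem i false) hzR) _).1 (Z.mb_mem i false)
  rcases Z.mem_W hmem with e | e | e | e
  · exact absurd (conj_eq_one_iff.1 e) (Z.mb_ne i false).1
  · refine absurd ?_ (Z.mb_ne i false).2
    calc Z.L i = (Z.zz' i)⁻¹ * (Z.zz' i * Z.L i) := by group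
      _ = (Z.zz' i)⁻¹ * (Z.L i * Z.zz' i) := by rw [Z.L_comm hzR]
      _ = (Z.zz' i)⁻¹ * (Z.zz' i * Z.mb i false * (Z.zz' i)⁻¹ * Z.zz' i) := by rw [e]
      _ = Z.mb i false := by group
  · exfalso
    have hc : Z.zz' i * Z.mb i false = Z.mb i false * Z.zz' i := mul_inv_eq_iff_eq_mul.1 e
    refine Z.N.own i false fun v hv => mem_centralizer_iff.2 fun u hu => ?_
    have hu' : u ∈ closure ({Z.L i, Z.mb i true} : Set G) := by
      have h1 : Z.L i ∈ closure ({Z.L i, Z.mb i true} : Set G) := subset_closure (Or.inl rfl)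
      have h2 : Z.mb i true ∈ closure ({Z.L i, Z.mb i true} : Set G) := subset_closure (Or.inr rfl)
      rcases Z.mem_W (b := true) hu with rfl | rfl | rfl | rfl
      · exact one_mem _
      · exact h1
      · exact h2
      · exact mul_mem h1 h2
    have hsub : closure ({Z.L i, Z.mb i true} : Set G) ≤ centralizer ({v} : Set G) := by
      rw [closure_le]
      rintro y (rfl | rfl) <;> rw [SetLike.mem_coe, mem_centralizer_singleton_iff]
      · exact Z.L_comm (Z.R_of_img (i := i) (b := false) hv) i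
      · rcases Z.mem_W (b := false) hv with rfl | rfl | rfl | rfl
        · simp
        · exact (Z.L_comm hzR i).symm
        · exact hc
        · calc Z.mb i true * (Z.L i * Z.mb i false) = (Z.mb i true * Z.L i) * Z.mb i false := by group
            _ = (Z.L i * Z.mb i true) * Z.mb i false := by rw [← Z.L_comm hzR i]
            _ = Z.L i * (Z.mb i false * Z.mb i true) := by rw [mul_assoc, hc]
            _ = _ := by group
    exact mem_centralizer_singleton_iff.1 (hsub hu')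
  · exact e

theorem x_fix_L {i j : Fin 3} (hij : i ≠ j) :
    Z.xb i false * Z.L j * (Z.xb i false)⁻¹ = Z.L j := by
  have hm := Z.mb_mem j false
  have hz := Z.mb_mem j true
  have a₁ : Apart W (Z.N.g j false) (Z.N.g i false) := Z.N.cross j i false false (Ne.symm hij)
  have a₂ : Apart W (Z.N.g j true) (Z.N.g i false) := Z.N.cross j i true false (Ne.symm hij)
  obtain ⟨d, hd, ed⟩ := exists_shift Z.P.base Z.w (Z.N.mem i false) (Z.N.mem j false) a₁
    (Z.xb_mem i false) hm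
  obtain ⟨c, hc, ec⟩ := exists_shift Z.P.base Z.w (Z.N.mem i false) (Z.N.mem j true) a₂
    (Z.xb_mem i false) hz
  have eL : Z.L j = ⁅Z.mb j true, Z.mb j false⁆ := by
    rw [commutatorElement_def, Z.z_conj j, mul_inv_cancel_right]
  rw [eL, ← MulAut.conj_apply, map_commutatorElement, MulAut.conj_apply, MulAut.conj_apply, ec, ed]
  exact commutator_central_mul (mem_centralizer_iff.1 (a₂ hz) c hc)
    (mem_centralizer_iff.1 (a₁ hm) c hc) (mem_centralizer_iff.1 (a₂ hz) d hd)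
    (mem_centralizer_iff.1 (a₁ hm) d hd) (Z.img_comm i false hc hd)

/-- The involution inverts the element of order three modulo the module. -/
theorem z_inverts (i : Fin 3) : ∃ v ∈ img W (Z.N.g i false),
    Z.zz' i * Z.xb i false * (Z.zz' i)⁻¹ = v * Z.xb i false ^ 2 := by
  have hzR : Z.zz' i ∈ R := Z.R_of_img (Z.mb_mem i true)
  have hzE : Z.zz' i ∈ normalizer ((img E (Z.N.g i false) : Subgroup G) : Set G) :=
    (Z.P.base.img Z.w (Z.N.mem i false)).hRE hzR
  obtain ⟨v, hv, k, hk, e⟩ :=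
    Z.gen_xb ((mem_normalizer_iff.1 hzE _).1 (Z.xb_mem i false))
  have hcomm : ∀ u ∈ img W (Z.N.g i false), v * u * v⁻¹ = u := fun u hu => by
    rw [Z.img_comm i false hv hu, mul_inv_cancel_right]
  -- both sides act alike on the fixed involution
  have key : v * (Z.xb i false ^ k * Z.L i * (Z.xb i false ^ k)⁻¹) * v⁻¹ =
      Z.L i * Z.mb i false := by
    calc _ = v * Z.xb i false ^ k * Z.L i * (v * Z.xb i false ^ k)⁻¹ := by group
      _ = Z.zz' i * (Z.xb i false * ((Z.zz' i)⁻¹ * Z.L i * Z.zz' i) * (Z.xb i false)⁻¹) *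
            (Z.zz' i)⁻¹ := by rw [← e]; group
      _ = Z.zz' i * (Z.xb i false * Z.L i * (Z.xb i false)⁻¹) * (Z.zz' i)⁻¹ := by
          rw [mul_assoc _ (Z.L i), Z.L_comm hzR i, inv_mul_cancel_left]
      _ = _ := by rw [Z.xb_L, Z.z_conj]
  interval_cases k
  · exfalso
    rw [pow_zero, one_mul, inv_one, mul_one, hcomm _ (Z.L_mem i false)] at key
    exact (Z.mb_ne i false).1 (left_eq_mul.1 key)
  · exfalso
    rw [pow_one, Z.xb_L, hcomm _ (Z.mb_mem i false)] at key
    exact Z.L_ne i (right_eq_mul.1 key)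
  · exact ⟨v, hv, e⟩

theorem x_move {i j : Fin 3} (hij : i ≠ j) :
    Z.xb i false * Z.mb j false * (Z.xb i false)⁻¹ = Z.mb j false ∨
      Z.xb i false * Z.mb j false * (Z.xb i false)⁻¹ =
        Z.L i * Z.mb i false * Z.mb j false := by
  obtain ⟨c, hc, ec⟩ := exists_shift Z.P.base Z.w (Z.N.mem i false) (Z.N.mem j false)
    (Z.N.cross j i false false (Ne.symm hij)) (Z.xb_mem i false) (Z.mb_mem j false)
  obtain ⟨v, hv, ev⟩ := Z.z_inverts i
  set z := Z.zz' i
  set X := Z.xb i false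
  set m := Z.mb j false
  have hzm : z⁻¹ * m * z = m := by
    rw [mul_assoc, ← Z.cross_comm hij true false (Z.mb_mem i true) (Z.mb_mem j false),
      inv_mul_cancel_left]
  have hzm' : z * m * z⁻¹ = m := by
    rw [Z.cross_comm hij true false (Z.mb_mem i true) (Z.mb_mem j false), mul_inv_cancel_right]
  have hvm : v * m = m * v := Z.cross_comm hij false false hv (Z.mb_mem j false)
  have hXc : X * c * X⁻¹ ∈ img W (Z.N.g i false) :=
    (mem_normalizer_iff.1 ((Z.P.base.img Z.w (Z.N.mem i false)).hEW (Z.xb_mem i false)) _).1 hc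
  have key : z * c * z⁻¹ = X * c * X⁻¹ * c := by
    have h1 : z * (X * m * X⁻¹) * z⁻¹ = z * c * z⁻¹ * m := by
      calc _ = z * c * z⁻¹ * (z * m * z⁻¹) := by rw [ec]; group
        _ = _ := by rw [hzm']
    have h2 : z * (X * m * X⁻¹) * z⁻¹ = X * c * X⁻¹ * c * m := by
      calc _ = z * X * (z⁻¹ * (z * m * z⁻¹) * z) * X⁻¹ * z⁻¹ := by group
        _ = (z * X * z⁻¹) * m * (z * X * z⁻¹)⁻¹ := by rw [hzm']; group
        _ = v * (X * (X * m * X⁻¹) * X⁻¹) * v⁻¹ := by rw [ev, pow_two]; group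
        _ = v * (X * c * X⁻¹ * (X * m * X⁻¹)) * v⁻¹ := by
          conv_lhs => rw [ec]
          group
        _ = v * (X * c * X⁻¹ * c * m) * v⁻¹ := by rw [ec, mul_assoc (X * c * X⁻¹) c m]
        _ = (v * (X * c * X⁻¹ * c)) * m * v⁻¹ := by group
        _ = (X * c * X⁻¹ * c * v) * m * v⁻¹ := by rw [Z.img_comm i false hv (mul_mem hXc hc)]
        _ = _ := by rw [mul_assoc _ v m, hvm]; group
    exact mul_right_cancel (h1.symm.trans h2)
  rw [ec]
  rcases Z.mem_W hc with rfl | rfl | rfl | rfl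
  · exact Or.inl (one_mul _)
  · exfalso
    rw [show z * Z.L i * z⁻¹ = Z.L i by
      rw [← Z.L_comm (Z.R_of_img (Z.mb_mem i true)) i, mul_inv_cancel_right], Z.xb_L] at key
    exact (Z.mb_ne i false).1 (right_eq_mul.1 key)
  · exfalso
    rw [Z.z_conj, Z.xb_mb, mul_assoc, Z.mb_sq, mul_one] at key
    exact (Z.mb_ne i false).1 (mul_eq_left.1 key)
  · exact Or.inr rfl

theorem z_fix {i j : Fin 3} (hij : i ≠ j) :
    Z.zz' i * Z.mb j false * (Z.zz' i)⁻¹ = Z.mb j false := by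
  rw [Z.cross_comm hij true false (Z.mb_mem i true) (Z.mb_mem j false), mul_inv_cancel_right]

open Classical in
/-- The bit of a pair of indices. -/
noncomputable def bit (i j : Fin 3) : Bool :=
  decide (Z.xb i false * Z.mb j false * (Z.xb i false)⁻¹ ≠ Z.mb j false)

theorem bit_spec {i j : Fin 3} (hij : i ≠ j) :
    Z.xb i false * Z.mb j false * (Z.xb i false)⁻¹ =
      if Z.bit i j then Z.L i * Z.mb i false * Z.mb j false else Z.mb j false := by
  classical
  by_cases h : Z.xb i false * Z.mb j false * (Z.xb i false)⁻¹ = Z.mb j false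
  · rw [bit, decide_eq_false (not_not.2 h)]
    simpa using h
  · rw [bit, decide_eq_true h, if_pos rfl]
    exact (Z.x_move hij).resolve_left h

theorem bit_zero : Z.bit 1 2 = false ∧ Z.bit 2 1 = false ∧
    Z.xb 1 false * Z.xb 2 false = Z.xb 2 false * Z.xb 1 false := by
  have hx1 : Z.xb 1 false = Z.x₀ := by simp [xb, Z.N.g1]
  have hm1 : Z.mb 1 false = Z.m₀ := by simp [mb, Z.N.g1]
  have hx2 : Z.xb 2 false = t * Z.x₀ * t⁻¹ := by simp [xb, Z.N.g2]
  have hm2 : Z.mb 2 false = t * Z.m₀ * t⁻¹ := by simp [mb, Z.N.g2]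
  have mE : Z.m₀ ∈ E := Z.P.base.hWE Z.a4.mW
  classical
  refine ⟨?_, ?_, ?_⟩
  · refine decide_eq_false (not_not.2 ?_)
    rw [hx1, hm2, Z.P.comm _ Z.a4.xE _ mE, mul_inv_cancel_right]
  · refine decide_eq_false (not_not.2 ?_)
    rw [hx2, hm1, ← Z.P.comm _ mE _ Z.a4.xE, mul_inv_cancel_right]
  · rw [hx1, hx2]; exact Z.P.comm _ Z.a4.xE _ Z.a4.xE

/-- The frame of a setting. -/
noncomputable def frame : Frame G where
  l := Z.L
  m i := Z.mb i false
  x i := Z.xb i false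
  z := Z.zz'
  p := Z.bit 0 1
  q := Z.bit 1 0
  r := Z.bit 0 2
  s := Z.bit 2 0
  lsq := Z.L_sq
  msq i := Z.mb_sq i false
  zsq i := Z.mb_sq i true
  x3 i := Z.xb3 i false
  l1 := Z.L_ne
  lm1 i := (Z.mb_ne i false).2
  ll i j := Z.L_comm (Z.R_of_img (Z.L_mem j false)) i
  lm i j := Z.L_comm (Z.R_of_img (Z.mb_mem j false)) i
  mm i j := by
    by_cases h : i = j
    · subst h; rfl
    · exact Z.cross_comm h false false (Z.mb_mem i false) (Z.mb_mem j false)
  xl i := Z.xb_L i false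
  xm i := Z.xb_mb i false
  xl' _ _ h := Z.x_fix_L h
  xm' i j h := by
    rw [Z.bit_spec h, show Model.bit (Z.bit 0 1) (Z.bit 1 0) (Z.bit 0 2) (Z.bit 2 0) i j = Z.bit i j
      from by
        fin_cases i <;> fin_cases j <;>
          first
            | exact absurd rfl h
            | rfl
            | exact Z.bit_zero.1.symm
            | exact Z.bit_zero.2.1.symm]
  zl i j := by rw [← Z.L_comm (Z.R_of_img (Z.mb_mem i true)) j, mul_inv_cancel_right]
  zm := Z.z_conj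
  zm' _ _ h := Z.z_fix h
  zz i j := by
    by_cases h : i = j
    · subst h; rfl
    · exact Z.cross_comm h true true (Z.mb_mem i true) (Z.mb_mem j true)
  x12 := Z.bit_zero.2.2

end Setting

/-- A setting exists. -/
theorem exists_setting (P : PairSys T M R E W t) (w : Tw M R W) (hk : ThreeKind R E W) :
    Nonempty (Setting T M R E W t) := by
  obtain ⟨hf, x, l, m, ha⟩ := hk
  obtain ⟨N⟩ := P.exists_six w
  obtain ⟨N', hN'⟩ := exists_adjusted P w N
  exact ⟨⟨P, w, hf, x, l, m, ha, N', hN'⟩⟩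

end Cfsg.Agent.QtkePush.AThree
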