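import Cfsg.Agent.QtkePush.AThree.Kernel

/-!
# No blocks of degree three

The stabiliser in `N(S)` of the six centralisers contains too large a 2-group of permutations.
-/

set_option autoImplicit false
set_option linter.unusedSectionVars false
set_option linter.style.haveILetI false

namespace Cfsg.Agent.QtkePush.AThree

open Subgroup

universe u

/-- Flip one pair. -/
def flipP (i : Fin 3) : Equiv.Perm (Fin 3 × Bool) :=
  Function.Involutive.toPerm (fun p => if p.1 = i then (p.1, !p.2) else p) fun p => by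
    rcases p with ⟨j, b⟩
    by_cases h : j = i <;> simp [h]

theorem flipP_apply (i j : Fin 3) (b : Bool) :
    flipP i (j, b) = if j = i then (j, !b) else (j, b) := rfl

theorem tri_cases : ∀ τ i : Fin 3, τ ≠ 0 → i = 0 ∨ i = τ ∨ i = Equiv.swap 1 2 τ := by
  decide

/-- Permute the pairs. -/
def pairP (σ : Equiv.Perm (Fin 3)) : Equiv.Perm (Fin 3 × Bool) := σ.prodCongr (Equiv.refl Bool)

theorem flip_facts : flipP 0 ≠ 1 ∧ flipP 0 ≠ pairP (Equiv.swap 1 2) ∧
    pairP (Equiv.swap 1 2) * flipP 0 ≠ 1 ∧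
    pairP (Equiv.swap 1 2) * flipP 0 * (pairP (Equiv.swap 1 2) * flipP 0) = 1 ∧
    flipP 0 * pairP (Equiv.swap 1 2) = pairP (Equiv.swap 1 2) * flipP 0 := by
  decide +kernel

theorem swap_facts : ∀ τ : Fin 3, τ ≠ 0 →
    pairP (Equiv.swap 0 τ) * flipP 0 * (pairP (Equiv.swap 0 τ))⁻¹ = flipP τ ∧
    pairP (Equiv.swap 1 2) * flipP τ * (pairP (Equiv.swap 1 2))⁻¹ = flipP (Equiv.swap 1 2 τ) ∧
    (pairP (Equiv.swap 1 2) * flipP 0) * flipP τ * (pairP (Equiv.swap 1 2) * flipP 0)⁻¹ =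
      flipP (Equiv.swap 1 2 τ) ∧
    (let a := pairP (Equiv.swap 1 2) * flipP 0
     let u := (a * pairP (Equiv.swap 0 τ)) * (a * pairP (Equiv.swap 0 τ)) * (a * pairP (Equiv.swap 0 τ))
     u ≠ 1 ∧ u ≠ a ∧ u * u = 1 ∧ u * a = a * u) := by
  decide +kernel

theorem flips_facts : (∀ i j, flipP i * flipP j = flipP j * flipP i) ∧
    (∀ i, flipP i * flipP i = 1) ∧
    ([1, flipP 0, flipP 1, flipP 2, flipP 0 * flipP 1] :
      List (Equiv.Perm (Fin 3 × Bool))).Nodup := by
  decide +kernel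

variable {G : Type u} [Group G] [Finite G]

local notation "cj[" g "]" => MulEquiv.toMonoidHom (MulAut.conj g)

variable {T : Sylow 2 G} {M R E W : Subgroup G} {t : G}

namespace Setting

variable (Z : Setting T M R E W t) (hQ : Cfsg.IsQuasithin G)

/-- The six centralisers as one family. -/
noncomputable def Kp (p : Fin 3 × Bool) : Subgroup G := Z.K p.1 p.2

theorem Kp_inj : Function.Injective Z.Kp := fun p q e => by
  obtain ⟨h1, h2⟩ := Z.K_le_imp (e.le)
  exact Prod.ext h1 h2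

/-- The stabiliser of the six centralisers in the normaliser of the fixer. -/
noncomputable def Ω : Subgroup G where
  carrier := {g | g ∈ normalizer (Z.SS : Set G) ∧ ∀ p, ∃ q, (Z.Kp p).map cj[g] = Z.Kp q}
  one_mem' := ⟨one_mem _, fun p => ⟨p, by
    rw [map_one]; exact Subgroup.map_id _⟩⟩
  mul_mem' := by
    rintro g h ⟨hg, hg'⟩ ⟨hh, hh'⟩
    refine ⟨mul_mem hg hh, fun p => ?_⟩
    obtain ⟨q, hq⟩ := hh' p
    obtain ⟨q', hq'⟩ := hg' q
    exact ⟨q', by rw [← hq', ← hq, img_img]⟩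
  inv_mem' := by
    rintro g ⟨hg, hg'⟩
    refine ⟨inv_mem hg, fun q => ?_⟩
    choose f hf using hg'
    have hinj : Function.Injective f := fun a b e => Z.Kp_inj (Subgroup.map_injective
      (MulAut.conj g).injective (((hf a).trans (congrArg Z.Kp e)).trans (hf b).symm))
    obtain ⟨p, rfl⟩ := (Finite.injective_iff_surjective.1 hinj) q
    refine ⟨p, ?_⟩
    rw [← hf p, img_img, inv_mul_cancel, img_one]

/-- The index of the image of a centraliser. -/
noncomputable def act (g : ↥Z.Ω) (p : Fin 3 × Bool) : Fin 3 × Bool := (g.2.2 p).choose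

theorem act_spec (g : ↥Z.Ω) (p : Fin 3 × Bool) : (Z.Kp p).map cj[(g : G)] = Z.Kp (Z.act g p) :=
  (g.2.2 p).choose_spec

theorem act_eq {g : ↥Z.Ω} {p q : Fin 3 × Bool} (h : (Z.Kp p).map cj[(g : G)] = Z.Kp q) :
    Z.act g p = q := Z.Kp_inj ((Z.act_spec g p).symm.trans h)

theorem act_injective (g : ↥Z.Ω) : Function.Injective (Z.act g) := fun a b e =>
  Z.Kp_inj (Subgroup.map_injective (MulAut.conj (g : G)).injective
    (by rw [Z.act_spec g a, Z.act_spec g b, e]))

/-- The action on the six centralisers. -/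
noncomputable def θ : ↥Z.Ω →* Equiv.Perm (Fin 3 × Bool) where
  toFun g := Equiv.ofBijective (Z.act g) (Finite.injective_iff_bijective.1 (Z.act_injective g))
  map_one' := Equiv.ext fun p => Z.act_eq (by
    show (Z.Kp p).map cj[(1 : G)] = Z.Kp p
    rw [map_one]; exact Subgroup.map_id _)
  map_mul' g h := Equiv.ext fun p => Z.act_eq (by
    show (Z.Kp p).map cj[(g : G) * (h : G)] = Z.Kp (Z.act g (Z.act h p))
    rw [← Z.act_spec g, ← Z.act_spec h, img_img])

theorem θ_apply {g : ↥Z.Ω} {p q : Fin 3 × Bool} (h : (Z.Kp p).map cj[(g : G)] = Z.Kp q) :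
    Z.θ g p = q := Z.act_eq h

include Z hQ

theorem T_le_Ω : (T : Subgroup G) ≤ Z.Ω := fun s hs => ⟨Z.T_le_normalizer hQ hs, fun p => by
  obtain ⟨j, c, e⟩ := exists_image Z.P Z.w Z.N hs p.1 p.2
  exact ⟨(j, c), Z.map_K_eq hQ hs e⟩⟩

theorem θ_T {s : G} (hs : s ∈ (T : Subgroup G)) {i j : Fin 3} {b c : Bool}
    (hd : dd R W (s * Z.N.g i b) = dd R W (Z.N.g j c)) :
    Z.θ ⟨s, Z.T_le_Ω hQ hs⟩ (i, b) = (j, c) := Z.θ_apply (Z.map_K_eq hQ hs hd)

theorem mem_SS_of_θ {s : G} (hs : s ∈ (T : Subgroup G)) (h : Z.θ ⟨s, Z.T_le_Ω hQ hs⟩ = 1) :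
    s ∈ Z.SS := by
  refine (mem_fixer Z.P Z.w Z.N).2 ⟨hs, fun i b => ?_⟩
  obtain ⟨j, c, e⟩ := exists_image Z.P Z.w Z.N hs i b
  have h1 := Z.θ_T hQ hs e
  rw [h] at h1
  obtain ⟨rfl, rfl⟩ := Prod.ext_iff.1 h1
  exact e

theorem θ_SS {s : G} (hs : s ∈ Z.SS) : Z.θ ⟨s, Z.T_le_Ω hQ (Z.SS_le_T hs)⟩ = 1 :=
  Equiv.ext fun p => Z.θ_T hQ (Z.SS_le_T hs) (((mem_fixer Z.P Z.w Z.N).1 hs).2 p.1 p.2)

/-- A 2-subgroup of the kernel containing the fixer is the fixer. -/
theorem le_SS_of_kernel {U : Subgroup G} (hU : IsPGroup 2 U) (hUΩ : U ≤ Z.Ω)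
    (hUk : ∀ u (hu : u ∈ U), Z.θ ⟨u, hUΩ hu⟩ = 1) : U ≤ Z.SS := by
  haveI : Fact (Nat.Prime 2) := ⟨Nat.prime_two⟩
  obtain ⟨T', hT'⟩ : ∃ T' : Sylow 2 ↥Z.Ω, (T' : Subgroup ↥Z.Ω) = (T : Subgroup G).subgroupOf Z.Ω :=
    ⟨T.subtype (Z.T_le_Ω hQ), rfl⟩
  obtain ⟨S₁, hS₁⟩ := (hU.comap_of_injective Z.Ω.subtype Z.Ω.subtype_injective).exists_le_sylow
  obtain ⟨k, hk⟩ := MulAction.exists_smul_eq ↥Z.Ω T' S₁
  intro u hu
  have h1 : (⟨u, hUΩ hu⟩ : ↥Z.Ω) ∈ (S₁ : Subgroup ↥Z.Ω) := hS₁ hu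
  rw [← hk, Sylow.coe_subgroup_smul] at h1
  obtain ⟨y, hy, e⟩ := h1
  rw [SetLike.mem_coe, hT', mem_subgroupOf] at hy
  have hy' : Z.θ ⟨(y : G), Z.T_le_Ω hQ hy⟩ = 1 := by
    have h2 := congrArg Z.θ e
    rw [hUk u hu] at h2
    simp only [MulDistribMulAction.toMonoidEnd_apply, MulDistribMulAction.toMonoidHom_apply,
      MulAut.smul_def, MulAut.conj_apply, map_mul, map_inv] at h2
    exact conj_eq_one_iff.1 h2
  have h3 := (mem_normalizer_iff.1 k.2.1 _).1 (Z.mem_SS_of_θ hQ hy hy')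
  have e' := congrArg Subtype.val e
  simp only [MulDistribMulAction.toMonoidEnd_apply, MulDistribMulAction.toMonoidHom_apply,
    MulAut.smul_def, MulAut.conj_apply, Subgroup.coe_mul, Subgroup.coe_inv] at e'
  rwa [e'] at h3

theorem mem_FF_of_commute {x : G} (hx : x ∈ (T : Subgroup G))
    (hc : x ∈ centralizer (Z.FF : Set G)) : x ∈ Z.FF := by
  have hxA : x ∈ centralizer (Z.AA : Set G) := centralizer_le Z.AA_le_FF hc
  refine mem_inf.2 ⟨(mem_fixer Z.P Z.w Z.N).2 ⟨hx, fun i => ?_⟩, hxA⟩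
  have hf : dd R W (x * Z.N.g i false) = dd R W (Z.N.g i false) := by
    have hn : x ∈ normalizer (img W (Z.N.g i false) : Set G) :=
      centralizer_le_normalizer _ (centralizer_le (Z.img_le_AA i) hxA)
    show R ⊓ centralizer (img W (x * Z.N.g i false) : Set G) = _
    rw [← img_img, show (img W (Z.N.g i false)).map cj[x] = img W (Z.N.g i false) from
      mem_normalizer_iff_map_conj_eq.1 hn]
  intro b
  cases b
  · exact hf
  · exact Z.w.partner_congr (mul_mem (Z.P.hTM hx) (Z.N.mem i false))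
      (mul_mem (Z.P.hTM hx) (Z.N.mem i true)) (Z.N.mem i false) (Z.N.mem i true)
      (Z.w.moving_translate fun h => Z.N.own i true h) (fun h => Z.N.own i true h) hf

theorem isPGroup_cent (hEC : Cfsg.IsOfEvenCharacteristic G) :
    IsPGroup 2 (centralizer (Z.FF : Set G)) := by
  haveI : Fact (Nat.Prime 2) := ⟨Nat.prime_two⟩
  -- a central involution of `T` in `R`
  have hn : (T : Subgroup G) ≤ normalizer (R : Set G) := Z.P.hTM.trans Z.w.hMR
  haveI : (R.subgroupOf (T : Subgroup G)).Normal := normal_subgroupOf_of_le_normalizer hn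
  have hne : R.subgroupOf (T : Subgroup G) ≠ ⊥ := fun e => Z.P.hR (by
    rw [← map_subgroupOf_eq_of_le Z.P.hRT, e, Subgroup.map_bot])
  obtain ⟨⟨⟨z, hzT⟩, hz⟩, hz0⟩ := Subgroup.ne_bot_iff_exists_ne_one.1
    (Fusion.pGroup_inf_center_ne_bot T.isPGroup' (R.subgroupOf (T : Subgroup G)) hne)
  obtain ⟨hzR, hzc⟩ := mem_inf.1 hz
  have hz1 : z ≠ 1 := fun e => hz0 (Subtype.ext (Subtype.ext e))
  have hzT' : ∀ s ∈ (T : Subgroup G), s * z = z * s := fun s hs =>
    congrArg Subtype.val (Subgroup.mem_center_iff.1 hzc ⟨s, hs⟩)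
  have hzF : z ∈ Z.FF := mem_inf.2 ⟨Z.R_le_SS (mem_subgroupOf.1 hzR),
    mem_centralizer_iff.2 fun a ha => hzT' a (Z.P.hRT (Z.AA_le_R ha))⟩
  set L := normalizer ((zpowers z : Subgroup G) : Set G)
  have hTL : (T : Subgroup G) ≤ L := by
    refine le_trans ?_ (centralizer_le_normalizer _)
    intro s hs
    refine mem_centralizer_iff.2 fun y hy => ?_
    obtain ⟨k, rfl⟩ := mem_zpowers_iff.1 hy
    exact (Commute.zpow_left (a := z) (b := s) (hzT' s hs).symm k).eq
  have hCL : centralizer (Z.FF : Set G) ≤ L := (centralizer_le (zpowers_le.2 hzF)).trans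
    (centralizer_le_normalizer _)
  have hchar := hEC L ⟨_, T.isPGroup'.to_le (zpowers_le.2 hzT), by simpa using hz1, rfl⟩ ⟨T, hTL⟩
  by_contra hnp
  obtain ⟨q, hq, hq1, hqo⟩ := Layer.exists_coprime_orderOf hnp
  have hFL : Z.FF ≤ L := (inf_le_left : Z.FF ≤ Z.SS).trans (Z.SS_le_T.trans hTL)
  obtain ⟨TL, hTLe⟩ : ∃ TL : Sylow 2 ↥L, (TL : Subgroup ↥L) = (T : Subgroup G).subgroupOf L :=
    ⟨T.subtype hTL, rfl⟩
  have hq' : (⟨q, hCL hq⟩ : ↥L) = 1 := by
    refine Layer.eq_one_of_centralizes (p := 2) hchar (P := Z.FF.subgroupOf L)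
      ((T.isPGroup'.to_le ((inf_le_left : Z.FF ≤ Z.SS).trans Z.SS_le_T)).comap_of_injective _
        L.subtype_injective) ?_ ?_ ?_
    · rwa [← Subgroup.orderOf_coe]
    · exact mem_centralizer_iff.2 fun y hy => Subtype.ext (mem_centralizer_iff.1 hq y hy)
    · refine mem_centralizer_iff.2 fun y hy => Subtype.ext ?_
      obtain ⟨hy1, hy2⟩ := hy
      have hyT : (y : G) ∈ (T : Subgroup G) := by
        have := Core.pCore_le_sylow TL hy1
        rwa [hTLe, mem_subgroupOf] at this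
      exact mem_centralizer_iff.1 hq y (Z.mem_FF_of_commute hQ hyT
        (mem_centralizer_iff.2 fun a ha => congrArg Subtype.val
          (mem_centralizer_iff.1 hy2 (⟨a, hFL ha⟩ : ↥L) ha)))
  exact hq1 (congrArg Subtype.val hq')

theorem cent_le_SS (hEC : Cfsg.IsOfEvenCharacteristic G) :
    centralizer (Z.FF : Set G) ≤ Z.SS := by
  haveI : Fact (Nat.Prime 2) := ⟨Nat.prime_two⟩
  set C := centralizer (Z.FF : Set G)
  have hCp : IsPGroup 2 C := Z.isPGroup_cent hQ hEC
  have hSA : Z.SS ≤ normalizer (Z.AA : Set G) := fun s hs => by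
    refine mem_normalizer_iff_map_conj_eq.2 (eq_of_le_of_card_ge ?_
      (Subgroup.card_map_of_injective (MulAut.conj s).injective).ge)
    rw [AA, Frame.A, MonoidHom.map_closure, closure_le]
    rintro _ ⟨_, ⟨k, rfl⟩, rfl⟩
    unfold Frame.e
    split_ifs
    · exact Z.img_le_AA _ ((mem_normalizer_iff.1 (Z.SS_norm hs _ false).2 _).1 (Z.L_mem _ false))
    · exact Z.img_le_AA _ ((mem_normalizer_iff.1 (Z.SS_norm hs _ false).2 _).1 (Z.mb_mem _ false))
  have hSF : Z.SS ≤ normalizer (Z.FF : Set G) :=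
    (le_inf Subgroup.le_normalizer (hSA.trans (Coprime.le_normalizer_centralizer le_rfl))).trans
      Subgroup.inf_normalizer_le_normalizer_inf
  have hSC : Z.SS ≤ normalizer (C : Set G) := hSF.trans (Coprime.le_normalizer_centralizer le_rfl)
  have hY : IsPGroup 2 (Z.SS ⊔ C : Subgroup G) :=
    IsPGroup.to_sup_of_normal_right' (T.isPGroup'.to_le Z.SS_le_T) hCp hSC
  -- an element of `C` normalising the fixer lies in it
  have hnorm : ∀ c ∈ C, c ∈ normalizer (Z.SS : Set G) → c ∈ Z.SS := by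
    intro c hc hcn
    have hcA : c ∈ centralizer (Z.AA : Set G) := centralizer_le Z.AA_le_FF hc
    have hzc : ∀ i, c * Z.zz' i * c⁻¹ * (Z.zz' i)⁻¹ ∈ Z.FF := fun i => by
      refine mem_inf.2 ⟨mul_mem ((mem_normalizer_iff.1 hcn _).1 (Z.z_mem_SS i))
        (inv_mem (Z.z_mem_SS i)), ?_⟩
      rw [show c * Z.zz' i * c⁻¹ * (Z.zz' i)⁻¹ = c * (Z.zz' i * c⁻¹ * (Z.zz' i)⁻¹) by group]
      exact mul_mem hcA ((mem_normalizer_iff.1 (Coprime.le_normalizer_centralizer le_rfl
        (hSA (Z.z_mem_SS i))) _).1 (inv_mem hcA))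
    obtain ⟨-, hK⟩ := Z.map_K_perm hQ (π := c) (σ := id) (fun _ => rfl)
      (centralizer_le_normalizer _ hcA)
      (fun f hf => (mem_centralizer_iff.1 hc f (mem_inf.1 hf).1).symm) hzc
    have hcΩ : c ∈ Z.Ω := ⟨hcn, fun p => ⟨p, hK p.1 p.2⟩⟩
    have hθ : Z.θ ⟨c, hcΩ⟩ = 1 := Equiv.ext fun p => Z.θ_apply (hK p.1 p.2)
    set U := Z.SS ⊔ zpowers c
    have hUΩ : U ≤ Z.Ω := sup_le (Z.SS_le_T.trans (Z.T_le_Ω hQ)) (zpowers_le.2 hcΩ)
    refine Z.le_SS_of_kernel hQ (hY.to_le (sup_le_sup_left (zpowers_le.2 hc) _)) hUΩ (fun u hu => ?_)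
      (mem_sup_right (mem_zpowers c))
    have hle : U ≤ Z.θ.ker.map Z.Ω.subtype := sup_le
      (fun s hs => ⟨⟨s, Z.T_le_Ω hQ (Z.SS_le_T hs)⟩, Z.θ_SS hQ hs, rfl⟩)
      (zpowers_le.2 ⟨⟨c, hcΩ⟩, hθ, rfl⟩)
    obtain ⟨v, hv, e⟩ := hle hu
    rwa [show (⟨u, hUΩ hu⟩ : ↥Z.Ω) = v from Subtype.ext e.symm]
  -- normaliser condition
  by_contra hnot
  set Y := Z.SS ⊔ C
  haveI := hY.isNilpotent
  have hlt : Z.SS.subgroupOf Y < ⊤ := lt_top_iff_ne_top.2 fun e =>
    hnot (le_sup_right.trans (subgroupOf_eq_top.1 e))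
  obtain ⟨y, hy, hy'⟩ := SetLike.exists_of_lt (Group.normalizerCondition_of_isNilpotent _ hlt)
  refine hy' (mem_subgroupOf.2 ?_)
  have hyn : (y : G) ∈ normalizer (Z.SS : Set G) := by
    refine mem_normalizer_iff.2 fun a => ⟨fun ha => ?_, fun ha => ?_⟩
    · exact (mem_normalizer_iff.1 hy ⟨a, mem_sup_left ha⟩).1 ha
    · have ha' : a ∈ Y := by
        have := Y.mul_mem (Y.mul_mem (Y.inv_mem y.2) (mem_sup_left ha : _ ∈ Y)) y.2
        simpa [mul_assoc] using this
      exact (mem_normalizer_iff.1 hy ⟨a, ha'⟩).2 ha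
  have hy2 : (y : G) ∈ ((Z.SS ⊔ C : Subgroup G) : Set G) := y.2
  rw [coe_mul_of_left_le_normalizer_right _ _ hSC] at hy2
  obtain ⟨s, hs, c, hc, e⟩ := hy2
  change s * c = (y : G) at e
  have hcn : c ∈ normalizer (Z.SS : Set G) := by
    rw [show c = s⁻¹ * y by rw [← e, inv_mul_cancel_left]]
    exact mul_mem (inv_mem (Subgroup.le_normalizer hs)) hyn
  rw [← e]
  exact mul_mem hs (hnorm c hc hcn)

set_option maxHeartbeats 800000 in
/-- No blocks of degree three. -/
theorem false_of_setting (hEC : Cfsg.IsOfEvenCharacteristic G) : False := by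
  classical
  haveI : Fact (Nat.Prime 2) := ⟨Nat.prime_two⟩
  obtain ⟨τ, hτ, π, hπx, hπA, hπz⟩ := Z.frame.exists_swap hQ
  have hπF : ∀ f ∈ Z.F0, π * f = f * π := by
    intro f hf
    have : closure (Set.range Z.frame.x) ≤ centralizer ({f} : Set G) := by
      rw [closure_le]
      rintro _ ⟨i, rfl⟩
      rw [SetLike.mem_coe, mem_centralizer_singleton_iff]
      exact mem_centralizer_iff.1 (mem_inf.1 hf).2 _ ⟨i, rfl⟩
    exact mem_centralizer_singleton_iff.1 (this hπx)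
  have hz : ∀ i, π * Z.zz' i * π⁻¹ * (Z.zz' (Equiv.swap 0 τ i))⁻¹ ∈ Z.FF := by
    intro i
    set ζ := π * Z.zz' i * π⁻¹ * (Z.zz' (Equiv.swap 0 τ i))⁻¹
    have hA : ζ ∈ centralizer (Z.AA : Set G) := hπz i
    refine mem_inf.2 ⟨Z.cent_le_SS hQ hEC (mem_centralizer_iff.2 fun c hc => ?_), hA⟩
    obtain ⟨a, ha, hf⟩ := Z.exists_F0 hQ hc
    have hπ' : π⁻¹ * (a * c) = (a * c) * π⁻¹ :=
      (Commute.inv_left (a := π) (b := a * c) (hπF _ hf)).eq
    have hz' : ∀ j, Z.zz' j * (a * c) = (a * c) * Z.zz' j := fun j => (Z.F0_z hQ hf j).symm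
    have hζf : ζ ∈ centralizer ({a * c} : Set G) := by
      refine mul_mem (mul_mem (mul_mem ?_ ?_) (inv_mem ?_)) (inv_mem ?_) <;>
        rw [mem_centralizer_singleton_iff]
      · exact hπF _ hf
      · exact hz' i
      · exact hπF _ hf
      · exact hz' _
    have h1 := mem_centralizer_singleton_iff.1 hζf
    have h2 := mem_centralizer_iff.1 hA _ (inv_mem ha)
    calc c * ζ = a⁻¹ * ((a * c) * ζ) := by group
      _ = (a⁻¹ * ζ) * (a * c) := by rw [← h1]; group
      _ = ζ * c := by rw [h2]; group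
  obtain ⟨hπN, hπK⟩ := Z.map_K_perm hQ (σ := Equiv.swap 0 τ) (fun i => Equiv.swap_apply_self _ _ i)
    hπA hπF hz
  have hπΩ : π ∈ Z.Ω := ⟨hπN, fun p => ⟨(Equiv.swap 0 τ p.1, p.2), hπK p.1 p.2⟩⟩
  have hθπ : Z.θ ⟨π, hπΩ⟩ = pairP (Equiv.swap 0 τ) := Equiv.ext fun p => Z.θ_apply (hπK p.1 p.2)
  -- the images of the elements of `T`
  set ν := pairP (Equiv.swap 1 2)
  have hin : ∀ s (hs : s ∈ (T : Subgroup G)), s ∈ normalizer (E : Set G) →
      Z.θ ⟨s, Z.T_le_Ω hQ hs⟩ = 1 ∨ Z.θ ⟨s, Z.T_le_Ω hQ hs⟩ = flipP 0 := by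
    intro s hs hE
    have h12 : ∀ i b, i ≠ 0 → Z.θ ⟨s, Z.T_le_Ω hQ hs⟩ (i, b) = (i, b) := fun i b hi =>
      Z.θ_T hQ hs (Z.N.inN s hs hE i b hi)
    obtain ⟨c, hc⟩ := Z.N.fix0 s hs false
    obtain ⟨c', hc'⟩ := Z.N.fix0 s hs true
    have h0 := Z.θ_T hQ hs hc
    have h0' := Z.θ_T hQ hs hc'
    set f := Z.θ ⟨s, Z.T_le_Ω hQ hs⟩
    have hne : c ≠ c' := fun e => by
      have := f.injective (h0.trans (e ▸ h0'.symm))
      simp at this
    cases c
    · obtain rfl : c' = true := by cases c' <;> simp at hne ⊢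
      left
      refine Equiv.ext fun p => ?_
      obtain ⟨i, b⟩ := p
      by_cases hi : i = 0
      · subst hi; cases b <;> assumption
      · exact h12 i b hi
    · obtain rfl : c' = false := by cases c' <;> simp at hne ⊢
      right
      refine Equiv.ext fun p => ?_
      obtain ⟨i, b⟩ := p
      by_cases hi : i = 0
      · subst hi
        rw [flipP_apply, if_pos rfl]
        cases b
        · exact h0
        · exact h0'
      · rw [h12 i b hi, flipP_apply, if_neg hi]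
  have hnot : ∀ s (hs : s ∈ (T : Subgroup G)), s ∉ normalizer (E : Set G) →
      Z.θ ⟨s, Z.T_le_Ω hQ hs⟩ = ν ∨ Z.θ ⟨s, Z.T_le_Ω hQ hs⟩ = ν * flipP 0 := by
    intro s hs hE
    obtain ⟨c, hc⟩ := Z.N.fix0 s hs false
    obtain ⟨c', hc'⟩ := Z.N.fix0 s hs true
    have h0 := Z.θ_T hQ hs hc
    have h0' := Z.θ_T hQ hs hc'
    have h1 := fun b => Z.θ_T hQ hs (Z.N.notN s hs hE b).1
    have h2 := fun b => Z.θ_T hQ hs (Z.N.notN s hs hE b).2
    set f := Z.θ ⟨s, Z.T_le_Ω hQ hs⟩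
    have hne : c ≠ c' := fun e => by
      have := f.injective (h0.trans (e ▸ h0'.symm))
      simp at this
    cases c
    · obtain rfl : c' = true := by cases c' <;> simp at hne ⊢
      left
      refine Equiv.ext fun p => ?_
      obtain ⟨i, b⟩ := p
      fin_cases i
      · cases b
        · exact h0
        · exact h0'
      · exact h1 b
      · exact h2 b
    · obtain rfl : c' = false := by cases c' <;> simp at hne ⊢
      right
      refine Equiv.ext fun p => ?_
      obtain ⟨i, b⟩ := p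
      fin_cases i
      · cases b
        · exact h0
        · exact h0'
      · exact h1 b
      · exact h2 b
  -- two-subgroups of permutations are no larger than the image of `T`
  set Q : Subgroup ↥Z.θ.range := ((T : Subgroup G).subgroupOf Z.Ω).map Z.θ.rangeRestrict
  have hQodd : ¬ 2 ∣ Q.index := fun h => by
    have h1 := h.trans (Subgroup.index_map_dvd _ Z.θ.rangeRestrict_surjective)
    exact T.not_dvd_index (h1.trans (Subgroup.relIndex_dvd_index_of_le (Z.T_le_Ω hQ)))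
  have hbound : ∀ U : Subgroup (Equiv.Perm (Fin 3 × Bool)), U ≤ Z.θ.range → IsPGroup 2 U →
      Nat.card U ≤ Nat.card Q := by
    intro U hU hUp
    obtain ⟨n, hn⟩ := IsPGroup.iff_card.1 hUp
    have h1 : Nat.card U ∣ Nat.card Q * Q.index := by
      rw [Subgroup.card_mul_index]
      exact Subgroup.card_dvd_of_le hU
    refine Nat.le_of_dvd Nat.card_pos (Nat.Coprime.dvd_of_dvd_mul_right ?_ h1)
    rw [hn]
    exact Nat.Coprime.pow_left n ((Nat.prime_two.coprime_iff_not_dvd).2 hQodd)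
  have hQcard : ∀ A : Finset (Equiv.Perm (Fin 3 × Bool)),
      (∀ s (hs : s ∈ (T : Subgroup G)), Z.θ ⟨s, Z.T_le_Ω hQ hs⟩ ∈ A) → Nat.card Q ≤ A.card := by
    intro A hA
    have hmem : ∀ q : ↥Q, ((q : ↥Z.θ.range) : Equiv.Perm (Fin 3 × Bool)) ∈ A := by
      rintro ⟨_, ⟨g, hg, rfl⟩⟩
      exact hA (g : G) hg
    calc Nat.card Q ≤ Nat.card A := Nat.card_le_card_of_injective (fun q => ⟨_, hmem q⟩)
          fun a b e => Subtype.ext (Subtype.ext (congrArg (fun y : ↥A => (y : Equiv.Perm (Fin 3 × Bool))) e))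
      _ = A.card := Nat.card_eq_finsetCard A
  have hmem : ∀ s (hs : s ∈ (T : Subgroup G)), Z.θ ⟨s, Z.T_le_Ω hQ hs⟩ ∈ Z.θ.range :=
    fun s hs => ⟨_, rfl⟩
  have hπmem : pairP (Equiv.swap 0 τ) ∈ Z.θ.range := hθπ ▸ ⟨_, rfl⟩
  obtain ⟨f01, f0ν, fa1, faa, fc⟩ := flip_facts
  obtain ⟨fπ, fν, fa, fu⟩ := swap_facts τ hτ
  obtain ⟨fl1, fl2, fl3⟩ := flips_facts
  have hcard2 : ∀ S : Finset (Equiv.Perm (Fin 3 × Bool)), (∀ a ∈ S, a * a = 1) →
      (∀ a ∈ S, ∀ b ∈ S, a * b = b * a) → (∀ a ∈ S, a ∈ Z.θ.range) →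
      ∀ L : Finset (Equiv.Perm (Fin 3 × Bool)),
        (∀ a ∈ L, a ∈ closure (S : Set (Equiv.Perm (Fin 3 × Bool)))) → L.card ≤ Nat.card Q := by
    intro S hsq hcomm hS L hL
    set U := closure (S : Set (Equiv.Perm (Fin 3 × Bool)))
    have hUc : U ≤ centralizer (U : Set (Equiv.Perm (Fin 3 × Bool))) := by
      rw [Subgroup.centralizer_closure, closure_le]
      exact fun a ha => mem_centralizer_iff.2 fun b hb => hcomm b hb a ha
    have hU2 : ∀ a ∈ U, a * a = 1 := by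
      intro a ha
      induction ha using Subgroup.closure_induction with
      | mem a ha => exact hsq a ha
      | one => rw [one_mul]
      | mul a b ha' hb' iha ihb =>
        calc a * b * (a * b) = a * (b * a) * b := by group
          _ = a * (a * b) * b := by rw [mem_centralizer_iff.1 (hUc ha') b hb']
          _ = a * a * (b * b) := by group
          _ = 1 := by rw [iha, ihb, one_mul]
      | inv a _ iha => rw [← mul_inv_rev, iha, inv_one]
    refine le_trans ?_ (hbound U ((closure_le _).2 hS) fun a => ⟨1, Subtype.ext (by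
      rw [pow_one, pow_two, Subgroup.coe_mul, hU2 a a.2, Subgroup.coe_one])⟩)
    rw [← Nat.card_eq_finsetCard L]
    exact Nat.card_le_card_of_injective (fun a => (⟨a.1, hL a.1 a.2⟩ : ↥U))
      fun a b e => Subtype.ext (congrArg (fun y : ↥U => (y : Equiv.Perm (Fin 3 × Bool))) e)
  have hall : ∀ s (hs : s ∈ (T : Subgroup G)),
      Z.θ ⟨s, Z.T_le_Ω hQ hs⟩ ∈ ({1, flipP 0, ν, ν * flipP 0} : Finset _) := by
    intro s hs
    simp only [Finset.mem_insert, Finset.mem_singleton]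
    by_cases h : s ∈ normalizer (E : Set G)
    · rcases hin s hs h with e | e
      · exact Or.inl e
      · exact Or.inr (Or.inl e)
    · rcases hnot s hs h with e | e
      · exact Or.inr (Or.inr (Or.inl e))
      · exact Or.inr (Or.inr (Or.inr e))
  by_cases hφ : ∃ s, ∃ hs : s ∈ (T : Subgroup G), Z.θ ⟨s, Z.T_le_Ω hQ hs⟩ = flipP 0
  · obtain ⟨s, hs, hsθ⟩ := hφ
    have h0 : flipP 0 ∈ Z.θ.range := hsθ ▸ hmem s hs
    have hτm : flipP τ ∈ Z.θ.range := fπ ▸ mul_mem (mul_mem hπmem h0) (inv_mem hπmem)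
    have hσm : flipP (Equiv.swap 1 2 τ) ∈ Z.θ.range := by
      rcases hnot t Z.P.ht Z.P.htE with e | e
      · have ht' := hmem t Z.P.ht
        rw [e] at ht'
        rw [← fν]
        exact mul_mem (mul_mem ht' hτm) (inv_mem ht')
      · have ht' := hmem t Z.P.ht
        rw [e] at ht'
        rw [← fa]
        exact mul_mem (mul_mem ht' hτm) (inv_mem ht')
    have hflips : ∀ i, flipP i ∈ Z.θ.range := by
      intro i
      obtain rfl | rfl | rfl := tri_cases τ i hτ
      exacts [h0, hτm, hσm]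
    have h5 := hcard2 (Finset.univ.image flipP) (by simp [fl2]) (by
        intro a ha b hb
        simp only [Finset.mem_image, Finset.mem_univ, true_and] at ha hb
        obtain ⟨i, rfl⟩ := ha
        obtain ⟨j, rfl⟩ := hb
        exact fl1 i j) (by simpa using hflips)
      [1, flipP 0, flipP 1, flipP 2, flipP 0 * flipP 1].toFinset (by
        intro a ha
        simp only [List.mem_toFinset, List.mem_cons, List.not_mem_nil, or_false] at ha
        have hg : ∀ i, flipP i ∈ closure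
            ((Finset.univ.image flipP : Finset _) : Set (Equiv.Perm (Fin 3 × Bool))) :=
          fun i => subset_closure (by simp)
        rcases ha with rfl | rfl | rfl | rfl | rfl
        exacts [one_mem _, hg 0, hg 1, hg 2, mul_mem (hg 0) (hg 1)])
    rw [List.toFinset_card_of_nodup fl3] at h5
    have h4 : ({1, flipP 0, ν, ν * flipP 0} : Finset _).card ≤ 4 := Finset.card_le_four
    have := hQcard _ hall
    simp only [List.length_cons, List.length_nil] at h5
    omega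
  · push Not at hφ
    obtain ⟨s₁, hs₁, hflip⟩ := Z.N.flip
    have hs₁θ : Z.θ ⟨s₁, Z.T_le_Ω hQ hs₁⟩ = ν * flipP 0 := by
      have h0 := Z.θ_T hQ hs₁ hflip
      by_cases h : s₁ ∈ normalizer (E : Set G)
      · rcases hin s₁ hs₁ h with e | e
        · rw [e] at h0; simp at h0
        · exact absurd e (hφ s₁ hs₁)
      · rcases hnot s₁ hs₁ h with e | e
        · rw [e] at h0; simp [ν, pairP, Equiv.swap_apply_of_ne_of_ne] at h0
        · exact e
    set a := ν * flipP 0
    have hT2 : ∀ s (hs : s ∈ (T : Subgroup G)),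
        Z.θ ⟨s, Z.T_le_Ω hQ hs⟩ ∈ ({1, a} : Finset _) := by
      intro s hs
      have h := hall s hs
      simp only [Finset.mem_insert, Finset.mem_singleton] at h ⊢
      rcases h with e | e | e | e
      · exact Or.inl e
      · exact absurd e (hφ s hs)
      · exfalso
        refine hφ (s * s₁) (mul_mem hs hs₁) ?_
        have e' : Z.θ ⟨s * s₁, Z.T_le_Ω hQ (mul_mem hs hs₁)⟩ =
            Z.θ ⟨s, Z.T_le_Ω hQ hs⟩ * Z.θ ⟨s₁, Z.T_le_Ω hQ hs₁⟩ := map_mul Z.θ ⟨s, _⟩ ⟨s₁, _⟩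
        rw [e', e, hs₁θ]
        show ν * (ν * flipP 0) = flipP 0
        rw [← mul_assoc]
        have : ν * ν = 1 := by
          rw [show ν = pairP (Equiv.swap 1 2) from rfl]
          decide +kernel
        rw [this, one_mul]
      · exact Or.inr e
    have ha : a ∈ Z.θ.range := hs₁θ ▸ hmem s₁ hs₁
    obtain ⟨u1, ua, uu, uc⟩ := fu
    set u := a * pairP (Equiv.swap 0 τ) * (a * pairP (Equiv.swap 0 τ)) * (a * pairP (Equiv.swap 0 τ))
    have hu : u ∈ Z.θ.range :=
      mul_mem (mul_mem (mul_mem ha hπmem) (mul_mem ha hπmem)) (mul_mem ha hπmem)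
    have h3 := hcard2 {a, u} (by
        intro x hx
        simp only [Finset.mem_insert, Finset.mem_singleton] at hx
        rcases hx with rfl | rfl
        exacts [faa, uu]) (by
        intro x hx y hy
        simp only [Finset.mem_insert, Finset.mem_singleton] at hx hy
        rcases hx with rfl | rfl <;> rcases hy with rfl | rfl
        exacts [rfl, uc.symm, uc, rfl]) (by
        intro x hx
        simp only [Finset.mem_insert, Finset.mem_singleton] at hx
        rcases hx with rfl | rfl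
        exacts [ha, hu])
      {1, a, u} (by
        intro x hx
        simp only [Finset.mem_insert, Finset.mem_singleton] at hx
        rcases hx with rfl | rfl | rfl
        exacts [one_mem _, subset_closure (by simp), subset_closure (by simp)])
    have hc : ({1, a, u} : Finset _).card = 3 :=
      Finset.card_eq_three.2 ⟨1, a, u, Ne.symm fa1, u1.symm, ua.symm, rfl⟩
    have h2 : ({1, a} : Finset _).card ≤ 2 := Finset.card_le_two
    have := hQcard _ hT2
    omega

end Setting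

/-- Blocks of degree three do not occur. -/
theorem false_of_threeKind (hQ : Cfsg.IsQuasithin G) (hEC : Cfsg.IsOfEvenCharacteristic G)
    (P : PairSys T M R E W t) (w : Tw M R W) (hk : ThreeKind R E W) : False := by
  obtain ⟨Z⟩ := exists_setting P w hk
  exact Z.false_of_setting hQ hEC

end Cfsg.Agent.QtkePush.AThree
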