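import Cfsg.Agent.QtkePush.AThree.Model
import Cfsg.Agent.QtkePush.Rank

/-!
# Three modules of order four with their elements of order three
-/

set_option autoImplicit false
set_option linter.unusedSectionVars false
set_option linter.style.haveILetI false

namespace Cfsg.Agent.QtkePush.AThree

open Subgroup Model
open scoped commutatorElement

universe u

variable {G : Type u} [Group G]

/-- The relations between the elements of the three modules. -/
structure Frame (G : Type u) [Group G] where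
  l : Fin 3 → G
  m : Fin 3 → G
  x : Fin 3 → G
  z : Fin 3 → G
  p : Bool
  q : Bool
  r : Bool
  s : Bool
  lsq : ∀ i, l i * l i = 1
  msq : ∀ i, m i * m i = 1
  zsq : ∀ i, z i * z i = 1
  x3 : ∀ i, x i ^ 3 = 1
  l1 : ∀ i, l i ≠ 1
  lm1 : ∀ i, l i ≠ m i
  ll : ∀ i j, l i * l j = l j * l i
  lm : ∀ i j, l i * m j = m j * l i
  mm : ∀ i j, m i * m j = m j * m i
  xl : ∀ i, x i * l i * (x i)⁻¹ = m i
  xm : ∀ i, x i * m i * (x i)⁻¹ = l i * m i
  xl' : ∀ i j, i ≠ j → x i * l j * (x i)⁻¹ = l j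
  xm' : ∀ i j, i ≠ j →
    x i * m j * (x i)⁻¹ = if Model.bit p q r s i j then l i * m i * m j else m j
  zl : ∀ i j, z i * l j * (z i)⁻¹ = l j
  zm : ∀ i, z i * m i * (z i)⁻¹ = l i * m i
  zm' : ∀ i j, i ≠ j → z i * m j * (z i)⁻¹ = m j
  zz : ∀ i j, z i * z j = z j * z i
  x12 : x 1 * x 2 = x 2 * x 1

theorem sig_val : ∀ τ i : Fin 3, τ ≠ 0 →
    ((Equiv.swap 0 τ i : Fin 3) : ℕ) = Model.sig τ i := by
  decide

/-- Read an index below three. -/
def fin3 (k : ℕ) : Fin 3 := ⟨k % 3, Nat.mod_lt _ (by decide)⟩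

theorem fin3_val (i : Fin 3) : fin3 i = i := Fin.ext (Nat.mod_eq_of_lt i.2)

namespace Frame

variable (F : Frame G)

/-- The generator with a given bit. -/
def e (k : ℕ) : G := if k % 2 = 0 then F.l (fin3 (k / 2)) else F.m (fin3 (k / 2))

/-- The group generated by the three modules. -/
def A : Subgroup G := closure (Set.range F.e)

/-- The element with given bits. -/
def φ (v : ℕ) : G :=
  [0, 1, 2, 3, 4, 5].foldr (fun k acc => if v.testBit k then F.e k * acc else acc) 1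

/-- `g` acts on the generated group as `f` on bits. -/
def Acts (g : G) (f : ℕ → ℕ) : Prop := ∀ v < 64, f v < 64 ∧ g * F.φ v * g⁻¹ = F.φ (f v)

theorem e_mem (k : ℕ) : F.e k ∈ F.A := subset_closure ⟨k, rfl⟩

theorem e_comm (j k : ℕ) : F.e j * F.e k = F.e k * F.e j := by
  unfold e
  split_ifs
  · exact F.ll _ _
  · exact F.lm _ _
  · exact (F.lm _ _).symm
  · exact F.mm _ _

theorem A_le_centralizer : F.A ≤ centralizer (F.A : Set G) := by
  rw [A, Subgroup.centralizer_closure, closure_le]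
  rintro _ ⟨j, rfl⟩
  refine mem_centralizer_iff.2 ?_
  rintro _ ⟨k, rfl⟩
  exact F.e_comm k j

theorem comm_A {a b : G} (ha : a ∈ F.A) (hb : b ∈ F.A) : a * b = b * a :=
  mem_centralizer_iff.1 (F.A_le_centralizer hb) a ha

theorem sq_A {a : G} (ha : a ∈ F.A) : a * a = 1 := by
  induction ha using Subgroup.closure_induction with
  | mem a ha =>
    obtain ⟨k, rfl⟩ := ha
    unfold e
    split_ifs
    · exact F.lsq _
    · exact F.msq _
  | one => rw [one_mul]
  | mul a b ha' hb' iha ihb =>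
    calc a * b * (a * b) = a * (b * a) * b := by group
      _ = a * (a * b) * b := by rw [F.comm_A hb' ha']
      _ = a * a * (b * b) := by group
      _ = 1 := by rw [iha, ihb, one_mul]
  | inv a _ iha => rw [← mul_inv_rev, iha, inv_one]

theorem inv_A {a : G} (ha : a ∈ F.A) : a⁻¹ = a := inv_eq_of_mul_eq_one_left (F.sq_A ha)

theorem fold_mem (L : List ℕ) (v : ℕ) :
    L.foldr (fun k acc => if v.testBit k then F.e k * acc else acc) 1 ∈ F.A := by
  induction L with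
  | nil => exact one_mem _
  | cons k L ih =>
    simp only [List.foldr_cons]
    split_ifs
    · exact mul_mem (F.e_mem k) ih
    · exact ih

theorem φ_mem (v : ℕ) : F.φ v ∈ F.A := F.fold_mem _ v

theorem φ_zero : F.φ 0 = 1 := by simp [φ]

theorem φ_xor (v w : ℕ) : F.φ (v ^^^ w) = F.φ v * F.φ w := by
  unfold φ
  generalize [0, 1, 2, 3, 4, 5] = L
  induction L with
  | nil => simp
  | cons k L ih =>
    simp only [List.foldr_cons]
    rw [ih, Nat.testBit_xor]
    set a := L.foldr (fun k acc => if v.testBit k then F.e k * acc else acc) 1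
    set b := L.foldr (fun k acc => if w.testBit k then F.e k * acc else acc) 1
    have ha : a ∈ F.A := F.fold_mem L v
    have he : F.e k ∈ F.A := F.e_mem k
    cases hv : v.testBit k <;> cases hw : w.testBit k <;> simp
    · calc F.e k * (a * b) = (F.e k * a) * b := by group
        _ = a * (F.e k * b) := by rw [F.comm_A he ha]; group
    · rw [mul_assoc]
    · calc a * b = a * (F.e k * F.e k) * b := by rw [F.sq_A he, mul_one]
        _ = (a * F.e k) * (F.e k * b) := by group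
        _ = F.e k * a * (F.e k * b) := by rw [F.comm_A ha he]

theorem φ_single {k : ℕ} (hk : k < 6) : F.φ (1 <<< k) = F.e k := by
  interval_cases k <;> simp [φ, Nat.testBit, Nat.shiftRight_eq_div_pow]

theorem φ_one : F.φ 1 = F.e 0 := F.φ_single (k := 0) (by decide)

theorem lin_lt {r : ℕ → ℕ} (hr : ∀ k < 6, r k < 64) (v : ℕ) : Model.lin r v < 64 := by
  unfold Model.lin
  simp only [List.foldr_cons, List.foldr_nil]
  have h : ∀ (b : Bool) (a c : ℕ), a < 2 ^ 6 → c < 2 ^ 6 → (if b then a ^^^ c else c) < 2 ^ 6 := by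
    intro b a c ha hc
    split_ifs
    · exact Nat.xor_lt_two_pow ha hc
    · exact hc
  exact h _ _ _ (hr 0 (by decide)) (h _ _ _ (hr 1 (by decide)) (h _ _ _ (hr 2 (by decide))
    (h _ _ _ (hr 3 (by decide)) (h _ _ _ (hr 4 (by decide)) (h _ _ _ (hr 5 (by decide))
      (by decide))))))

theorem acts_lin {g : G} {r : ℕ → ℕ} (hr : ∀ k < 6, r k < 64)
    (h : ∀ k < 6, g * F.e k * g⁻¹ = F.φ (r k)) : F.Acts g (Model.lin r) := by
  refine fun v _ => ⟨lin_lt hr v, ?_⟩
  have hmem : ∀ k ∈ [0, 1, 2, 3, 4, 5], g * F.e k * g⁻¹ = F.φ (r k) := by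
    intro k hk
    refine h k ?_
    simp only [List.mem_cons, List.mem_nil_iff, or_false] at hk
    omega
  unfold Model.lin
  rw [show F.φ v = [0, 1, 2, 3, 4, 5].foldr (fun k acc => if v.testBit k then F.e k * acc else acc) 1
    from rfl]
  revert hmem
  generalize [0, 1, 2, 3, 4, 5] = L
  intro hmem
  induction L with
  | nil => simp [F.φ_zero]
  | cons k L ih =>
    have ih' := ih fun j hj => hmem j (List.mem_cons_of_mem _ hj)
    simp only [List.foldr_cons]
    split_ifs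
    · rw [F.φ_xor, ← hmem k (by simp), ← ih']
      group
    · exact ih'

theorem Acts.mul {F : Frame G} {g h : G} {f f' : ℕ → ℕ} (hg : F.Acts g f) (hh : F.Acts h f') :
    F.Acts (g * h) (f ∘ f') := by
  intro v hv
  obtain ⟨h1, h2⟩ := hh v hv
  obtain ⟨h3, h4⟩ := hg _ h1
  refine ⟨h3, ?_⟩
  rw [Function.comp_apply, ← h4, ← h2]
  group

theorem acts_one : F.Acts 1 id := fun v hv => ⟨hv, by simp⟩

theorem Acts.pow {F : Frame G} {g : G} {f : ℕ → ℕ} (hg : F.Acts g f) :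
    ∀ n : ℕ, F.Acts (g ^ n) (Model.iter f n)
  | 0 => by rw [pow_zero]; exact F.acts_one
  | n + 1 => by rw [pow_succ']; exact hg.mul (Acts.pow hg n)

theorem e_eq (j : Fin 3) : F.e (2 * (j : ℕ)) = F.l j ∧ F.e (2 * (j : ℕ) + 1) = F.m j := by
  refine ⟨?_, ?_⟩
  · unfold e
    rw [if_pos (by omega), show 2 * (j : ℕ) / 2 = j by omega, fin3_val]
  · unfold e
    rw [if_neg (by omega), show (2 * (j : ℕ) + 1) / 2 = j by omega, fin3_val]

theorem exists_eq_two_mul {k : ℕ} (hk : k < 6) :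
    ∃ j : Fin 3, k = 2 * (j : ℕ) ∨ k = 2 * (j : ℕ) + 1 :=
  ⟨⟨k / 2, by omega⟩, by show k = 2 * (k / 2) ∨ k = 2 * (k / 2) + 1; omega⟩

theorem φ_l (j : Fin 3) : F.φ (1 <<< (2 * (j : ℕ))) = F.l j := by
  rw [F.φ_single (by omega), (F.e_eq j).1]

theorem φ_m (j : Fin 3) : F.φ (1 <<< (2 * (j : ℕ) + 1)) = F.m j := by
  rw [F.φ_single (by omega), (F.e_eq j).2]

theorem l_mem (j : Fin 3) : F.l j ∈ F.A := (F.e_eq j).1 ▸ F.e_mem _

theorem m_mem (j : Fin 3) : F.m j ∈ F.A := (F.e_eq j).2 ▸ F.e_mem _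

theorem acts_x (i : Fin 3) :
    F.Acts (F.x i) (Model.xMap (Model.bit F.p F.q F.r F.s) i) := by
  refine F.acts_lin (fun k hk => Model.lt_spec F.p F.q F.r F.s i ⟨k, hk⟩) fun k hk => ?_
  obtain ⟨j, rfl | rfl⟩ := exists_eq_two_mul hk
  · rw [(F.e_eq j).1]
    by_cases hji : j = i
    · subst hji
      rw [Model.xRow, if_pos rfl, F.φ_m, F.xl]
    · have hv : (j : ℕ) ≠ (i : ℕ) := fun h => hji (Fin.ext h)
      rw [Model.xRow, if_neg (by omega), if_neg (by omega), if_pos (by omega), F.φ_l,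
        F.xl' i j (Ne.symm hji)]
  · rw [(F.e_eq j).2]
    by_cases hji : j = i
    · subst hji
      rw [Model.xRow, if_neg (by omega), if_pos rfl, F.φ_xor, F.φ_l, F.φ_m, F.xm]
    · have hv : (j : ℕ) ≠ (i : ℕ) := fun h => hji (Fin.ext h)
      rw [Model.xRow, if_neg (by omega), if_neg (by omega), if_neg (by omega),
        show (2 * (j : ℕ) + 1) / 2 = j by omega, F.xm' i j (Ne.symm hji)]
      split_ifs
      · rw [F.φ_xor, F.φ_xor, F.φ_l, F.φ_m, F.φ_m]
        exact F.comm_A (mul_mem (F.l_mem i) (F.m_mem i)) (F.m_mem j)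
      · rw [F.φ_m]

theorem acts_z (i : Fin 3) : F.Acts (F.z i) (Model.zMap i) := by
  refine F.acts_lin (fun k hk => ?_) fun k hk => ?_
  · have h1 : ∀ j < 6, 1 <<< j < 2 ^ 6 := by decide
    split_ifs
    · exact Nat.xor_lt_two_pow (h1 k hk) (h1 _ (by omega))
    · exact h1 k hk
  obtain ⟨j, rfl | rfl⟩ := exists_eq_two_mul hk
  · rw [(F.e_eq j).1, if_neg (by omega), F.φ_l, F.zl]
  · rw [(F.e_eq j).2]
    by_cases hji : j = i
    · subst hji
      rw [if_pos rfl, F.φ_xor, F.φ_m, F.φ_l, F.zm, F.lm]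
    · have hv : (j : ℕ) ≠ (i : ℕ) := fun h => hji (Fin.ext h)
      rw [if_neg (by omega), F.φ_m, F.zm' i j (Ne.symm hji)]

theorem φ_eq_one {v : ℕ} (hv : v < 64) (h : F.φ v = 1) : v = 0 := by
  have hodd : ∀ j : Fin 3, Nat.testBit v (2 * (j : ℕ) + 1) = false := by
    intro j
    by_contra hb
    rw [Bool.not_eq_false] at hb
    have h1 := Model.z_spec j ⟨v, hv⟩
    rw [if_pos hb] at h1
    have h2 := (F.acts_z j v hv).2
    rw [h] at h2
    have h3 := F.φ_xor (Model.zMap j v) v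
    rw [h1, F.φ_l, h, ← h2] at h3
    exact F.l1 j (by simpa using h3)
  have heven : ∀ j : Fin 3, Nat.testBit v (2 * (j : ℕ)) = false := by
    intro j
    by_contra hb
    rw [Bool.not_eq_false] at hb
    have h1 := Model.x_spec F.p F.q F.r F.s j ⟨v, hv⟩ hodd
    rw [if_pos hb] at h1
    have h2 := (F.acts_x j v hv).2
    rw [h] at h2
    have h3 := F.φ_xor (Model.xMap (Model.bit F.p F.q F.r F.s) j v) v
    rw [h1, h, ← h2, show 3 <<< (2 * (j : ℕ)) =
      (1 <<< (2 * (j : ℕ))) ^^^ (1 <<< (2 * (j : ℕ) + 1)) by fin_cases j <;> rfl, F.φ_xor, F.φ_l,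
      F.φ_m] at h3
    refine F.lm1 j ?_
    have h4 : F.l j * F.m j = 1 := by simpa using h3
    rw [← inv_eq_of_mul_eq_one_right h4, F.inv_A (F.l_mem j)]
  have := congrArg Fin.val (Model.zero_spec ⟨v, hv⟩ hodd heven)
  simpa using this

theorem φ_inj {v w : ℕ} (hv : v < 64) (hw : w < 64) (h : F.φ v = F.φ w) : v = w := by
  have := F.φ_eq_one (Nat.xor_lt_two_pow (n := 6) hv hw) (by
    rw [F.φ_xor, h, F.sq_A (F.φ_mem w)])
  exact Nat.xor_eq_zero_iff.1 this

theorem mem_normalizer_of_acts [Finite G] {g : G} {f : ℕ → ℕ} (hg : F.Acts g f) :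
    g ∈ normalizer (F.A : Set G) := by
  refine mem_normalizer_iff_map_conj_eq.2 (eq_of_le_of_card_ge ?_
    (Subgroup.card_map_of_injective (MulAut.conj g).injective).ge)
  rw [A, MonoidHom.map_closure, closure_le]
  rintro _ ⟨_, ⟨k, rfl⟩, rfl⟩
  have hk : F.e k = F.e (2 * (k / 2 % 3) + k % 2) := by
    have hk3 : ∀ n, fin3 (n % 3) = fin3 n := fun n => Fin.ext (Nat.mod_mod _ _)
    unfold e
    rw [show (2 * (k / 2 % 3) + k % 2) % 2 = k % 2 by omega,
      show (2 * (k / 2 % 3) + k % 2) / 2 = k / 2 % 3 by omega, hk3]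
  show g * F.e k * g⁻¹ ∈ F.A
  rw [hk, ← F.φ_single (by omega), (hg _ (by
    have : ∀ j < 6, 1 <<< j < 64 := by decide
    exact this _ (by omega))).2]
  exact F.φ_mem _

/-- Agreement on the generators gives agreement on the generated group. -/
theorem mem_centralizer_of_eq [Finite G] {g h : G} {f f' : ℕ → ℕ} (hg : F.Acts g f)
    (hh : F.Acts h f') (he : ∀ k : Fin 6, f (1 <<< (k : ℕ)) = f' (1 <<< (k : ℕ))) :
    g * h⁻¹ ∈ centralizer (F.A : Set G) := by
  have hd : ∀ j < 6, 1 <<< j < 64 := by decide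
  have h1 : F.A ≤ centralizer ({h⁻¹ * g} : Set G) := by
    rw [A, closure_le]
    rintro _ ⟨k, rfl⟩
    have hk : F.e k = F.e (2 * (k / 2 % 3) + k % 2) := by
      have hk3 : ∀ n, fin3 (n % 3) = fin3 n := fun n => Fin.ext (Nat.mod_mod _ _)
      unfold e
      rw [show (2 * (k / 2 % 3) + k % 2) % 2 = k % 2 by omega,
        show (2 * (k / 2 % 3) + k % 2) / 2 = k / 2 % 3 by omega, hk3]
    have hk6 : 2 * (k / 2 % 3) + k % 2 < 6 := by omega
    have e1 := (hg _ (hd _ hk6)).2.trans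
      ((congrArg F.φ (he ⟨_, hk6⟩)).trans (hh _ (hd _ hk6)).2.symm)
    rw [F.φ_single hk6, ← hk] at e1
    rw [SetLike.mem_coe, mem_centralizer_singleton_iff]
    calc F.e k * (h⁻¹ * g) = h⁻¹ * (h * F.e k * h⁻¹) * g := by group
      _ = h⁻¹ * (g * F.e k * g⁻¹) * g := by rw [e1]
      _ = h⁻¹ * g * F.e k := by group
  have h2 : h⁻¹ * g ∈ centralizer (F.A : Set G) :=
    mem_centralizer_iff.2 fun y hy => mem_centralizer_singleton_iff.1 (h1 hy)
  have h3 := (mem_normalizer_iff.1 (Coprime.le_normalizer_centralizer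
    (le_refl (normalizer (F.A : Set G))) (F.mem_normalizer_of_acts hh)) _).1 h2
  simpa [mul_assoc] using h3

/-- The value on a generator of an element fixing all of them. -/
theorem fixes_of_mem_centralizer {g : G} {f : ℕ → ℕ} (hg : F.Acts g f)
    (hc : g ∈ centralizer (F.A : Set G)) (k : Fin 6) : f (1 <<< (k : ℕ)) = 1 <<< (k : ℕ) := by
  have hd : ∀ j < 6, 1 <<< j < 64 := by decide
  have hk := hd _ k.2
  refine F.φ_inj (hg _ hk).1 hk ?_
  rw [← (hg _ hk).2, ← mem_centralizer_iff.1 hc _ (F.φ_mem _), mul_inv_cancel_right]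

/-- A word in the three elements of order three. -/
def wordG (L : List (ℕ × Bool)) : G :=
  L.foldl (fun y kb =>
    if kb.2 then F.x (fin3 kb.1) * y * (F.x (fin3 kb.1) * F.x (fin3 kb.1))
    else F.x (fin3 kb.1) * F.x (fin3 kb.1) * y * F.x (fin3 kb.1)) (F.x 0)

theorem wordG_spec (B : Subgroup G) (hB : ∀ i, F.x i ∈ B) (L : List (ℕ × Bool))
    (hL : ∀ kb ∈ L, kb.1 < 3) :
    F.Acts (F.wordG L) (Model.wordMap (Model.xMap (Model.bit F.p F.q F.r F.s)) L) ∧
      F.wordG L ^ 3 = 1 ∧ F.wordG L ∈ B := by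
  unfold wordG Model.wordMap
  have base : F.Acts (F.x 0) (Model.xMap (Model.bit F.p F.q F.r F.s) 0) ∧ F.x 0 ^ 3 = 1 ∧
      F.x 0 ∈ B := ⟨F.acts_x 0, F.x3 0, hB 0⟩
  revert base
  generalize F.x 0 = y
  generalize Model.xMap (Model.bit F.p F.q F.r F.s) 0 = fy
  intro base
  induction L generalizing y fy with
  | nil => exact base
  | cons kb L ih =>
    simp only [List.foldl_cons]
    refine ih (fun kb' h' => hL kb' (List.mem_cons_of_mem _ h')) _ _ ?_
    obtain ⟨hy, hy3, hyB⟩ := base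
    have hk : kb.1 = ((fin3 kb.1 : Fin 3) : ℕ) := (Nat.mod_eq_of_lt (hL kb (by simp))).symm
    have hx := F.acts_x (fin3 kb.1)
    rw [← hk] at hx
    set X := F.x (fin3 kb.1) with hX
    have hXi : X * X = X⁻¹ := by
      refine eq_inv_of_mul_eq_one_left ?_
      rw [← pow_two, ← pow_succ, F.x3]
    cases kb.2
    · simp only [Bool.false_eq_true, if_false]
      refine ⟨((hx.mul hx).mul hy).mul hx, ?_, mul_mem (mul_mem (mul_mem (hB _) (hB _)) hyB) (hB _)⟩
      rw [hXi]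
      conv_lhs => rw [show X⁻¹ * y * X = X⁻¹ * y * X⁻¹⁻¹ by rw [inv_inv], conj_pow, hy3]
      simp
    · simp only [if_true]
      refine ⟨((hx.mul hy).mul (hx.mul hx)), ?_, mul_mem (mul_mem (hB _) hyB) (mul_mem (hB _) (hB _))⟩
      rw [hXi, conj_pow, hy3]
      simp

/-- Without a double edge there is no such frame in a quasithin group. -/
theorem double_edge [Finite G] (hQ : Cfsg.IsQuasithin G) :
    ((F.p && F.q) || (F.r && F.s)) = true := by
  by_contra hno
  simp only [Bool.not_eq_true, Bool.or_eq_false_iff] at hno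
  obtain ⟨hs, hind⟩ := Model.word_spec F.p F.q F.r F.s hno.1 hno.2
  haveI : Fact (Nat.Prime 3) := ⟨Nat.prime_three⟩
  set B := closure (Set.range F.x) with hB
  have hxB : ∀ i, F.x i ∈ B := fun i => subset_closure ⟨i, rfl⟩
  obtain ⟨hy, hy3, hyB⟩ :=
    F.wordG_spec B hxB _ (Model.word_lt F.p F.q F.r F.s)
  set y := F.wordG (Model.word F.p F.q F.r F.s)
  have hBA : B ≤ normalizer (F.A : Set G) := by
    rw [hB, closure_le]
    rintro _ ⟨i, rfl⟩
    exact F.mem_normalizer_of_acts (F.acts_x i)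
  have hA2 : IsPGroup 2 F.A := fun a => ⟨1, Subtype.ext (by
    rw [pow_one, pow_two, Subgroup.coe_mul, F.sq_A a.2, Subgroup.coe_one])⟩
  have hAne : F.A ≠ ⊥ := fun e => F.l1 0 (mem_bot.1 (e ▸ F.l_mem 0))
  have hcomm : ∀ i : Fin 3, i ≠ 0 → ⁅F.x i, y⁆ ∈ centralizer (F.A : Set G) := by
    intro i hi
    rw [show ⁅F.x i, y⁆ = F.x i * y * (y * F.x i)⁻¹ by rw [commutatorElement_def]; group]
    refine F.mem_centralizer_of_eq ((F.acts_x i).mul hy) (hy.mul (F.acts_x i)) fun k => ?_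
    obtain rfl | rfl : i = 1 ∨ i = 2 := by omega
    · exact (hs k).1.symm
    · exact (hs k).2.symm
  refine not_pRankLE_two (hQ 3 Nat.prime_three (by decide) _ ⟨F.A, hA2, hAne, rfl⟩) hBA
    (hBA.trans (Coprime.le_normalizer_centralizer le_rfl)) (hxB 1) (hxB 2) hyB (F.x3 1) (F.x3 2)
    (by rw [hy3]; exact one_mem _) F.x12 (hcomm 1 (by decide)) (hcomm 2 (by decide))
    fun i j k h => ?_
  rw [pow_eq_pow_mod i (F.x3 1), pow_eq_pow_mod j (F.x3 2), pow_eq_pow_mod k hy3] at h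
  have h0 := hind ⟨i % 3, Nat.mod_lt _ (by decide)⟩ ⟨j % 3, Nat.mod_lt _ (by decide)⟩
    ⟨k % 3, Nat.mod_lt _ (by decide)⟩
    (F.fixes_of_mem_centralizer ((((F.acts_x 1).pow _).mul ((F.acts_x 2).pow _)).mul (hy.pow _)) h)
  simp only [Fin.ext_iff, Fin.val_zero] at h0
  exact ⟨Nat.dvd_of_mod_eq_zero h0.1, Nat.dvd_of_mod_eq_zero h0.2.1, Nat.dvd_of_mod_eq_zero h0.2.2⟩

/-- A double edge gives an element exchanging the two involutions modulo the kernel. -/
theorem exists_swap [Finite G] (hQ : Cfsg.IsQuasithin G) :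
    ∃ τ : Fin 3, τ ≠ 0 ∧ ∃ π : G, π ∈ closure (Set.range F.x) ∧ π ∈ normalizer (F.A : Set G) ∧
      ∀ i, π * F.z i * π⁻¹ * (F.z (Equiv.swap 0 τ i))⁻¹ ∈ centralizer (F.A : Set G) := by
  have hd := F.double_edge hQ
  obtain ⟨τ, hτ, h1, h2⟩ : ∃ τ : Fin 3, τ ≠ 0 ∧ Model.bit F.p F.q F.r F.s 0 τ = true ∧
      Model.bit F.p F.q F.r F.s τ 0 = true := by
    simp only [Bool.or_eq_true, Bool.and_eq_true] at hd
    rcases hd with h | h
    · exact ⟨1, by decide, h.1, h.2⟩
    · exact ⟨2, by decide, h.1, h.2⟩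
  refine ⟨τ, hτ, F.x 0 * F.x τ * F.x 0 * F.x τ * F.x 0, ?_, ?_, fun i => ?_⟩
  · have h : ∀ i, F.x i ∈ closure (Set.range F.x) := fun i => subset_closure ⟨i, rfl⟩
    exact mul_mem (mul_mem (mul_mem (mul_mem (h 0) (h τ)) (h 0)) (h τ)) (h 0)
  · exact F.mem_normalizer_of_acts
      (((((F.acts_x 0).mul (F.acts_x τ)).mul (F.acts_x 0)).mul (F.acts_x τ)).mul (F.acts_x 0))
  · have hπ := (((((F.acts_x 0).mul (F.acts_x τ)).mul (F.acts_x 0)).mul (F.acts_x τ)).mul
      (F.acts_x 0))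
    set π := F.x 0 * F.x τ * F.x 0 * F.x τ * F.x 0
    rw [show π * F.z i * π⁻¹ * (F.z (Equiv.swap 0 τ i))⁻¹ =
      π * F.z i * (F.z (Equiv.swap 0 τ i) * π)⁻¹ by group]
    refine F.mem_centralizer_of_eq (hπ.mul (F.acts_z i))
      ((F.acts_z (Equiv.swap 0 τ i)).mul hπ) fun k => ?_
    rw [sig_val τ i hτ]
    exact Model.swap_spec F.p F.q F.r F.s τ hτ h1 h2 i k

/-- With a double edge, a correction in the modules makes the three elements commute with `c`. -/
theorem exists_fix [Finite G] (hQ : Cfsg.IsQuasithin G) {c : G} (u : Fin 3 → G)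
    (hu : ∀ i, u i = 1 ∨ u i = F.l i ∨ u i = F.m i ∨ u i = F.l i * F.m i)
    (hc : ∀ i, F.x i * c * (F.x i)⁻¹ = u i * c) :
    ∃ a ∈ F.A, ∀ i, F.x i * (a * c) * (F.x i)⁻¹ = a * c := by
  classical
  have hcode : ∀ i : Fin 3, ∃ n : Fin 4, F.φ ((n : ℕ) <<< (2 * (i : ℕ))) = u i := by
    intro i
    rcases hu i with e | e | e | e
    · exact ⟨0, by simp [e, F.φ_zero]⟩
    · exact ⟨1, by rw [e]; exact F.φ_l i⟩
    · refine ⟨2, ?_⟩
      rw [show ((2 : Fin 4) : ℕ) <<< (2 * (i : ℕ)) = 1 <<< (2 * (i : ℕ) + 1) by fin_cases i <;> rfl,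
        F.φ_m, e]
    · refine ⟨3, ?_⟩
      rw [show ((3 : Fin 4) : ℕ) <<< (2 * (i : ℕ)) =
        (1 <<< (2 * (i : ℕ))) ^^^ (1 <<< (2 * (i : ℕ) + 1)) by fin_cases i <;> rfl,
        F.φ_xor, F.φ_l, F.φ_m, e]
  choose n hn using hcode
  have hw : ∀ a b d : Fin 4, ∃ w : Fin 64, (w : ℕ) &&& 3 = a ∧ (w : ℕ) &&& (3 <<< 2) = (b : ℕ) <<< 2 ∧
      (w : ℕ) &&& (3 <<< 4) = (d : ℕ) <<< 4 := by decide +kernel
  obtain ⟨w, hw0, hw1, hw2⟩ := hw (n 0) (n 1) (n 2)
  obtain ⟨v, hv⟩ := Model.solve_spec F.p F.q F.r F.s (F.double_edge hQ) w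
  refine ⟨F.φ v, F.φ_mem _, fun i => ?_⟩
  have h1 := (F.acts_x i v v.2).2
  have h2 : F.φ (Model.xMap (Model.bit F.p F.q F.r F.s) i v) * F.φ v = u i := by
    rw [← F.φ_xor, hv i, ← hn i]
    congr 1
    fin_cases i
    · simpa using hw0
    · simpa using hw1
    · simpa using hw2
  calc F.x i * (F.φ v * c) * (F.x i)⁻¹ = (F.x i * F.φ v * (F.x i)⁻¹) * (F.x i * c * (F.x i)⁻¹) := by
        group
    _ = F.φ (Model.xMap (Model.bit F.p F.q F.r F.s) i v) * (u i * c) := by rw [h1, hc i]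
    _ = (F.φ (Model.xMap (Model.bit F.p F.q F.r F.s) i v) *
          F.φ (Model.xMap (Model.bit F.p F.q F.r F.s) i v)) * F.φ v * c := by rw [← h2]; group
    _ = F.φ v * c := by rw [F.sq_A (F.φ_mem _), one_mul]

/-- Every element of the modules has bits. -/
theorem exists_φ {a : G} (ha : a ∈ F.A) : ∃ v < 64, F.φ v = a := by
  induction ha using Subgroup.closure_induction with
  | mem a ha =>
    obtain ⟨k, rfl⟩ := ha
    have hk : F.e k = F.e (2 * (k / 2 % 3) + k % 2) := by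
      have hk3 : ∀ n, fin3 (n % 3) = fin3 n := fun n => Fin.ext (Nat.mod_mod _ _)
      unfold e
      rw [show (2 * (k / 2 % 3) + k % 2) % 2 = k % 2 by omega,
        show (2 * (k / 2 % 3) + k % 2) / 2 = k / 2 % 3 by omega, hk3]
    have hd : ∀ j < 6, 1 <<< j < 64 := by decide
    exact ⟨1 <<< (2 * (k / 2 % 3) + k % 2), hd _ (by omega),
      by rw [F.φ_single (by omega), ← hk]⟩
  | one => exact ⟨0, by decide, F.φ_zero⟩
  | mul a b _ _ iha ihb =>
    obtain ⟨v, hv, rfl⟩ := iha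
    obtain ⟨w, hw, rfl⟩ := ihb
    exact ⟨v ^^^ w, Nat.xor_lt_two_pow (n := 6) hv hw, F.φ_xor v w⟩
  | inv a ha iha =>
    obtain ⟨v, hv, rfl⟩ := iha
    exact ⟨v, hv, (F.inv_A (F.φ_mem v)).symm⟩

/-- The only element of the modules commuting with the three elements is trivial. -/
theorem eq_one_of_fixed [Finite G] (hQ : Cfsg.IsQuasithin G) {a : G} (ha : a ∈ F.A)
    (h : ∀ i, F.x i * a * (F.x i)⁻¹ = a) : a = 1 := by
  obtain ⟨v, hv, rfl⟩ := F.exists_φ ha
  have h0 : (⟨v, hv⟩ : Fin 64) = 0 := Model.fixed_spec F.p F.q F.r F.s (F.double_edge hQ) ⟨v, hv⟩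
    fun i => by
      have := (F.acts_x i v hv).2
      rw [h i] at this
      exact (F.φ_inj (F.acts_x i v hv).1 hv this.symm)
  rw [show v = 0 from congrArg Fin.val h0, F.φ_zero]

end Frame

end Cfsg.Agent.QtkePush.AThree
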