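import Cfsg.Agent.QtkePush.AThree.Adjust
import Cfsg.Agent.Layer.PConstraint
import Cfsg.Agent.LocalStructure.CharP

/-!
# The six centralisers in the fixer

With `S` the fixer and `A` the product of the three modules: `C_S(A) = A × F₀`, `S` permuted
centralisers of the six images, and the centraliser of `C_S(A)` lies in `S`.
-/

set_option autoImplicit false
set_option linter.unusedSectionVars false
set_option linter.style.haveILetI false

namespace Cfsg.Agent.QtkePush.AThree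

open Subgroup
open scoped commutatorElement

universe u

variable {G : Type u} [Group G] [Finite G]

local notation "cj[" g "]" => MulEquiv.toMonoidHom (MulAut.conj g)

variable {T : Sylow 2 G} {M R E W : Subgroup G} {t : G}

namespace Setting

variable (Z : Setting T M R E W t)

/-- The fixer. -/
noncomputable def SS : Subgroup G := fixer Z.N

/-- The product of the three modules. -/
noncomputable def AA : Subgroup G := Z.frame.A

/-- The part of the fixer centralising the modules. -/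
noncomputable def FF : Subgroup G := Z.SS ⊓ centralizer (Z.AA : Set G)

/-- The part centralising also the elements of order three. -/
noncomputable def F0 : Subgroup G := Z.FF ⊓ centralizer (Set.range fun i => Z.xb i false)

/-- The centraliser of an image in the fixer. -/
noncomputable def K (i : Fin 3) (b : Bool) : Subgroup G :=
  Z.SS ⊓ centralizer (img W (Z.N.g i b) : Set G)

theorem R_le_SS : R ≤ Z.SS := R_le_fixer Z.P Z.w Z.N

theorem SS_le_T : Z.SS ≤ (T : Subgroup G) := inf_le_left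

theorem SS_conj {s u : G} (hs : s ∈ Z.SS) (hu : u ∈ (T : Subgroup G)) : u * s * u⁻¹ ∈ Z.SS := by
  have := conj_mem_fixer Z.P Z.w Z.N hs (inv_mem hu)
  rwa [inv_inv] at this

theorem SS_norm {s : G} (hs : s ∈ Z.SS) (i : Fin 3) (b : Bool) :
    s ∈ normalizer (img E (Z.N.g i b) : Set G) ∧ s ∈ normalizer (img W (Z.N.g i b) : Set G) := by
  have h := Z.adj i b s hs
  have e : s = Z.N.g i b * ((Z.N.g i b)⁻¹ * s * Z.N.g i b) * (Z.N.g i b)⁻¹ := by group
  refine ⟨?_, ?_⟩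
  · rw [e]
    exact Subgroup.le_normalizer_map _ ⟨_, h.2, rfl⟩
  · rw [e]
    exact Subgroup.le_normalizer_map _ ⟨_, Z.P.normE _ h.1 h.2, rfl⟩

theorem SS_fix_L {s : G} (hs : s ∈ Z.SS) (i : Fin 3) : s * Z.L i * s⁻¹ = Z.L i :=
  fixed_unique Z.P Z.w Z.fo (Z.N.mem i false)
    ((mem_normalizer_iff.1 (Z.SS_norm hs i false).2 _).1 (Z.L_mem i false)) (Z.L_mem i false)
    (fun e => Z.L_ne i (conj_eq_one_iff.1 e)) (Z.L_ne i)
    (Z.w.conj_cent (Z.P.hTM (Z.SS_le_T hs)) (Z.L_cent i)) (Z.L_cent i)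

theorem L_mem_AA (i : Fin 3) : Z.L i ∈ Z.AA := Z.frame.l_mem i

theorem m_mem_AA (i : Fin 3) : Z.mb i false ∈ Z.AA := Z.frame.m_mem i

theorem img_le_AA (i : Fin 3) : img W (Z.N.g i false) ≤ Z.AA := fun v hv => by
  rcases Z.mem_W hv with rfl | rfl | rfl | rfl
  · exact one_mem _
  · exact Z.L_mem_AA i
  · exact Z.m_mem_AA i
  · exact mul_mem (Z.L_mem_AA i) (Z.m_mem_AA i)

theorem mem_cent_AA {g : G} (hl : ∀ i, g * Z.L i = Z.L i * g)
    (hm : ∀ i, g * Z.mb i false = Z.mb i false * g) : g ∈ centralizer (Z.AA : Set G) := by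
  have h : Z.AA ≤ centralizer ({g} : Set G) := by
    rw [AA, Frame.A, closure_le]
    rintro _ ⟨k, rfl⟩
    rw [SetLike.mem_coe, mem_centralizer_singleton_iff]
    unfold Frame.e
    split_ifs
    · exact (hl _).symm
    · exact (hm _).symm
  exact mem_centralizer_iff.2 fun y hy => mem_centralizer_singleton_iff.1 (h hy)

theorem AA_le_R : Z.AA ≤ R := by
  rw [AA, Frame.A, closure_le]
  rintro _ ⟨k, rfl⟩
  unfold Frame.e
  split_ifs
  · exact Z.R_of_img (Z.L_mem _ false)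
  · exact Z.R_of_img (Z.mb_mem _ false)

theorem AA_le_FF : Z.AA ≤ Z.FF := le_inf (Z.AA_le_R.trans Z.R_le_SS) Z.frame.A_le_centralizer

theorem z_mem_SS (i : Fin 3) : Z.zz' i ∈ Z.SS := Z.R_le_SS (Z.R_of_img (Z.mb_mem i true))

theorem SS_m {s : G} (hs : s ∈ Z.SS) (i : Fin 3) :
    s * Z.mb i false * s⁻¹ = Z.mb i false ∨ s * Z.mb i false * s⁻¹ = Z.L i * Z.mb i false := by
  rcases Z.mem_W ((mem_normalizer_iff.1 (Z.SS_norm hs i false).2 _).1 (Z.mb_mem i false)) with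
    e | e | e | e
  · exact absurd (conj_eq_one_iff.1 e) (Z.mb_ne i false).1
  · exact absurd (mul_left_cancel (mul_right_cancel (e.trans (Z.SS_fix_L hs i).symm))).symm
      (Z.mb_ne i false).2
  · exact Or.inl e
  · exact Or.inr e

/-- One factor of a product of partner involutions. -/
noncomputable def zfac (e : Fin 3 → Bool) (i : Fin 3) : G := if e i then Z.zz' i else 1

/-- A product of partner involutions. -/
noncomputable def zprod (e : Fin 3 → Bool) : G := Z.zfac e 0 * Z.zfac e 1 * Z.zfac e 2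

theorem zfac_mem_R (e : Fin 3 → Bool) (i : Fin 3) : Z.zfac e i ∈ R := by
  unfold zfac
  split_ifs
  · exact Z.R_of_img (Z.mb_mem i true)
  · exact one_mem _

theorem zprod_mem_R (e : Fin 3 → Bool) : Z.zprod e ∈ R :=
  mul_mem (mul_mem (Z.zfac_mem_R e 0) (Z.zfac_mem_R e 1)) (Z.zfac_mem_R e 2)

theorem zfac_m {e : Fin 3 → Bool} {i j : Fin 3} (h : j ≠ i) :
    Z.zfac e j * Z.mb i false = Z.mb i false * Z.zfac e j := by
  unfold zfac
  split_ifs
  · exact Z.cross_comm h true false (Z.mb_mem j true) (Z.mb_mem i false)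
  · rw [one_mul, mul_one]

theorem zfac_comm (e : Fin 3 → Bool) (i j : Fin 3) :
    Z.zfac e i * Z.zfac e j = Z.zfac e j * Z.zfac e i := by
  unfold zfac
  split_ifs
  · exact Z.frame.zz i j
  all_goals simp

theorem zprod_conj (e : Fin 3 → Bool) (i : Fin 3) :
    Z.zprod e * Z.mb i false * (Z.zprod e)⁻¹ =
      if e i then Z.L i * Z.mb i false else Z.mb i false := by
  have key : ∀ {a b c : G}, Z.zprod e = a * (b * c) → b * Z.mb i false = Z.mb i false * b →
      c * Z.mb i false = Z.mb i false * c → a = Z.zfac e i →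
      Z.zprod e * Z.mb i false * (Z.zprod e)⁻¹ =
        if e i then Z.L i * Z.mb i false else Z.mb i false := by
    intro a b c he hb hc ha
    have hbc : b * c * Z.mb i false = Z.mb i false * (b * c) := by
      rw [mul_assoc, hc, ← mul_assoc, hb, mul_assoc]
    rw [he, mul_assoc a, hbc, ha]
    unfold zfac
    split_ifs
    · rw [← Z.z_conj i]; group
    · group
  fin_cases i
  · exact key (a := Z.zfac e 0) (mul_assoc _ _ _) (Z.zfac_m (by decide)) (Z.zfac_m (by decide)) rfl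
  · refine key (a := Z.zfac e 1) (b := Z.zfac e 0) (c := Z.zfac e 2) ?_ (Z.zfac_m (by decide))
      (Z.zfac_m (by decide)) rfl
    rw [zprod, Z.zfac_comm e 0 1, mul_assoc]
  · refine key (a := Z.zfac e 2) (b := Z.zfac e 0) (c := Z.zfac e 1) ?_ (Z.zfac_m (by decide))
      (Z.zfac_m (by decide)) rfl
    rw [zprod, mul_assoc (Z.zfac e 0), Z.zfac_comm e 1 2, ← mul_assoc, Z.zfac_comm e 0 2, mul_assoc]

theorem exists_zprod {s : G} (hs : s ∈ Z.SS) :
    ∃ (e : Fin 3 → Bool) (c : G), c ∈ Z.FF ∧ s = Z.zprod e * c ∧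
      ∀ i, e i = false ↔ s * Z.mb i false = Z.mb i false * s := by
  classical
  let e : Fin 3 → Bool := fun i => decide (¬ s * Z.mb i false = Z.mb i false * s)
  have hzR := Z.zprod_mem_R e
  refine ⟨e, (Z.zprod e)⁻¹ * s, mem_inf.2
    ⟨mul_mem (inv_mem (Z.R_le_SS hzR)) hs, ?_⟩,
    (mul_inv_cancel_left _ _).symm, fun i => by simp [e]⟩
  refine Z.mem_cent_AA (fun i => ?_) fun i => ?_
  · have h1 : s * Z.L i = Z.L i * s := mul_inv_eq_iff_eq_mul.1 (Z.SS_fix_L hs i)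
    rw [mul_assoc, h1, ← mul_assoc, ← Z.L_comm (inv_mem hzR) i, mul_assoc]
  · have h1 : Z.zprod e * Z.mb i false * (Z.zprod e)⁻¹ = s * Z.mb i false * s⁻¹ := by
      rw [Z.zprod_conj]
      by_cases hc : s * Z.mb i false = Z.mb i false * s
      · rw [if_neg (by simp [e, hc]), hc, mul_inv_cancel_right]
      · rw [if_pos (by simp [e, hc])]
        exact ((Z.SS_m hs i).resolve_left fun h => hc (mul_inv_eq_iff_eq_mul.1 h)).symm
    calc (Z.zprod e)⁻¹ * s * Z.mb i false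
        = (Z.zprod e)⁻¹ * (s * Z.mb i false * s⁻¹) * s := by group
      _ = (Z.zprod e)⁻¹ * (Z.zprod e * Z.mb i false * (Z.zprod e)⁻¹) * s := by rw [h1]
      _ = _ := by group

variable (hQ : Cfsg.IsQuasithin G)
include hQ

theorem exists_F0 {c : G} (hc : c ∈ Z.FF) : ∃ a ∈ Z.AA, a * c ∈ Z.F0 := by
  obtain ⟨hcS, hcA⟩ := mem_inf.1 hc
  have hu : ∀ i, ∃ u ∈ img W (Z.N.g i false),
      Z.xb i false * c * (Z.xb i false)⁻¹ = u * c := by
    intro i
    obtain ⟨v, hv, k, hk, e⟩ :=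
      Z.gen_xb ((mem_normalizer_iff.1 (Z.SS_norm hcS i false).1 _).1 (Z.xb_mem i false))
    have hfix : ∀ y ∈ Z.AA, c * y * c⁻¹ = y := fun y hy => by
      rw [← mem_centralizer_iff.1 hcA y hy, mul_inv_cancel_right]
    have hfix' : ∀ y ∈ Z.AA, c⁻¹ * y * c = y := fun y hy => by
      rw [mul_assoc, mem_centralizer_iff.1 hcA y hy, inv_mul_cancel_left]
    have key : Z.xb i false ^ k * Z.L i * (Z.xb i false ^ k)⁻¹ = Z.mb i false := by
      have h1 : v * (Z.xb i false ^ k * Z.L i * (Z.xb i false ^ k)⁻¹) * v⁻¹ = Z.mb i false := by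
        calc _ = (v * Z.xb i false ^ k) * Z.L i * (v * Z.xb i false ^ k)⁻¹ := by group
          _ = c * (Z.xb i false * (c⁻¹ * Z.L i * c) * (Z.xb i false)⁻¹) * c⁻¹ := by
              rw [← e]; group
          _ = _ := by rw [hfix' _ (Z.L_mem_AA i), Z.xb_L, hfix _ (Z.m_mem_AA i)]
      have h2 := congrArg (fun y => v⁻¹ * y * v) h1
      simp only [mul_assoc, inv_mul_cancel_left, inv_mul_cancel, mul_one] at h2
      rw [← Z.img_comm i false hv (Z.mb_mem i false), inv_mul_cancel_left] at h2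
      simpa [mul_assoc] using h2
    interval_cases k
    · rw [pow_zero, one_mul, inv_one, mul_one] at key
      exact absurd key (Z.mb_ne i false).2
    · refine ⟨v⁻¹, inv_mem hv, ?_⟩
      rw [pow_one] at e
      calc Z.xb i false * c * (Z.xb i false)⁻¹
          = v⁻¹ * (v * Z.xb i false) * c * (Z.xb i false)⁻¹ := by rw [inv_mul_cancel_left]
        _ = v⁻¹ * c := by rw [← e]; group
    · exfalso
      rw [pow_two, show Z.xb i false * Z.xb i false * Z.L i * (Z.xb i false * Z.xb i false)⁻¹ =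
        Z.xb i false * (Z.xb i false * Z.L i * (Z.xb i false)⁻¹) * (Z.xb i false)⁻¹ by group,
        Z.xb_L, Z.xb_mb] at key
      exact Z.L_ne i (mul_eq_right.1 key)
  choose u hu huc using hu
  obtain ⟨a, ha, hfixa⟩ := Z.frame.exists_fix hQ u (fun i => Z.mem_W (hu i)) huc
  refine ⟨a, ha, mul_mem (Z.AA_le_FF ha) hc, mem_centralizer_iff.2 ?_⟩
  rintro _ ⟨i, rfl⟩
  exact mul_inv_eq_iff_eq_mul.1 (hfixa i)

theorem F0_inf_AA {a : G} (ha : a ∈ Z.AA) (h : a ∈ Z.F0) : a = 1 :=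
  Z.frame.eq_one_of_fixed hQ ha fun i =>
    mul_inv_eq_iff_eq_mul.2 (mem_centralizer_iff.1 h.2 _ ⟨i, rfl⟩)

theorem F0_z {f : G} (hf : f ∈ Z.F0) (i : Fin 3) : f * Z.zz' i = Z.zz' i * f := by
  obtain ⟨hfF, hfx⟩ := mem_inf.1 hf
  obtain ⟨hfS, hfA⟩ := mem_inf.1 hfF
  have hfix : ∀ y ∈ Z.AA, f * y * f⁻¹ = y := fun y hy => by
    rw [← mem_centralizer_iff.1 hfA y hy, mul_inv_cancel_right]
  rcases Z.mem_W (b := true)
    ((mem_normalizer_iff.1 (Z.SS_norm hfS i true).2 _).1 (Z.mb_mem i true)) with e | e | e | e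
  · exact absurd (conj_eq_one_iff.1 e) (Z.mb_ne i true).1
  · exact absurd (mul_left_cancel (mul_right_cancel (e.trans (hfix _ (Z.L_mem_AA i)).symm))).symm
      (Z.mb_ne i true).2
  · exact mul_inv_eq_iff_eq_mul.1 e
  · exfalso
    obtain ⟨v, hv, ev⟩ := Z.z_inverts i
    have hX : f * Z.xb i false * f⁻¹ = Z.xb i false :=
      mul_inv_eq_iff_eq_mul.2 (mem_centralizer_iff.1 hfx _ ⟨i, rfl⟩).symm
    have hvF : f * v * f⁻¹ = v := hfix v (Z.img_le_AA i hv)
    have h1 : Z.L i * (v * Z.xb i false ^ 2) * (Z.L i)⁻¹ = v * Z.xb i false ^ 2 := by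
      calc _ = (Z.L i * Z.zz' i) * Z.xb i false * (Z.L i * Z.zz' i)⁻¹ := by rw [← ev]; group
        _ = (f * Z.zz' i * f⁻¹) * (f * Z.xb i false * f⁻¹) * (f * Z.zz' i * f⁻¹)⁻¹ := by
            rw [e, hX]
        _ = f * (v * Z.xb i false ^ 2) * f⁻¹ := by rw [← ev]; group
        _ = (f * v * f⁻¹) * (f * Z.xb i false * f⁻¹) ^ 2 := by rw [conj_pow]; group
        _ = _ := by rw [hvF, hX]
    have h3 : Z.xb i false ^ 2 * Z.L i * (Z.xb i false ^ 2)⁻¹ = Z.L i := by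
      have h4 : v * Z.L i = Z.L i * v := Z.img_comm i false hv (Z.L_mem i false)
      calc _ = v⁻¹ * ((v * Z.xb i false ^ 2) * Z.L i) * (Z.xb i false ^ 2)⁻¹ := by group
        _ = v⁻¹ * (Z.L i * (v * Z.xb i false ^ 2)) * (Z.xb i false ^ 2)⁻¹ := by
            rw [mul_inv_eq_iff_eq_mul.1 h1]
        _ = v⁻¹ * (Z.L i * v) := by group
        _ = _ := by rw [← h4]; group
    rw [pow_two, show Z.xb i false * Z.xb i false * Z.L i * (Z.xb i false * Z.xb i false)⁻¹ =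
      Z.xb i false * (Z.xb i false * Z.L i * (Z.xb i false)⁻¹) * (Z.xb i false)⁻¹ by group,
      Z.xb_L, Z.xb_mb] at h3
    exact (Z.mb_ne i false).1 (mul_eq_left.1 h3)

theorem FF_z {c : G} (hc : c ∈ Z.FF) (k : Fin 3) :
    Z.zz' k * c * (Z.zz' k)⁻¹ = c ∨ Z.zz' k * c * (Z.zz' k)⁻¹ = Z.L k * c := by
  obtain ⟨a, ha, hf⟩ := Z.exists_F0 hQ hc
  obtain ⟨v, hv, rfl⟩ := Z.frame.exists_φ ha
  have h1 : Z.zz' k * Z.frame.φ v * (Z.zz' k)⁻¹ = Z.frame.φ (Model.zMap k v) :=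
    (Z.frame.acts_z k v hv).2
  have h2 := Model.z_spec k ⟨v, hv⟩
  have h3 : Model.zMap k v = (Model.zMap k v ^^^ v) ^^^ v := by
    rw [Nat.xor_assoc, Nat.xor_self, Nat.xor_zero]
  have hs : (Z.frame.φ v)⁻¹ = Z.frame.φ v := Z.frame.inv_A (Z.frame.φ_mem v)
  have e : Z.zz' k * c * (Z.zz' k)⁻¹ = Z.frame.φ (Model.zMap k v ^^^ v) * c := by
    calc _ = (Z.zz' k * Z.frame.φ v * (Z.zz' k)⁻¹)⁻¹ *
          (Z.zz' k * (Z.frame.φ v * c) * (Z.zz' k)⁻¹) := by group
      _ = (Z.frame.φ (Model.zMap k v))⁻¹ * (Z.frame.φ v * c) := by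
          rw [h1, ← Z.F0_z hQ hf k, mul_inv_cancel_right]
      _ = _ := by
          rw [Z.frame.inv_A (Z.frame.φ_mem _), ← mul_assoc, ← Z.frame.φ_xor]
  rw [h2] at e
  split_ifs at e
  · right; rw [e, Z.frame.φ_l]; rfl
  · left; rw [e, Z.frame.φ_zero, one_mul]

/-- The fixer is `R F₀`. -/
theorem exists_RF0 {s : G} (hs : s ∈ Z.SS) : ∃ r ∈ R, ∃ f ∈ Z.F0, s = r * f := by
  obtain ⟨e, c, hc, rfl, -⟩ := Z.exists_zprod hs
  obtain ⟨a, ha, hf⟩ := Z.exists_F0 hQ hc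
  exact ⟨Z.zprod e * a⁻¹, mul_mem (Z.zprod_mem_R e) (inv_mem (Z.AA_le_R ha)), a * c, hf, by group⟩

theorem F0_zprod {f : G} (hf : f ∈ Z.F0) (e : Fin 3 → Bool) :
    f * Z.zprod e = Z.zprod e * f := by
  have h : ∀ i, Z.zfac e i ∈ centralizer ({f} : Set G) := fun i => by
    rw [mem_centralizer_singleton_iff]
    unfold zfac
    split_ifs
    · exact (Z.F0_z hQ hf i).symm
    · rw [one_mul, mul_one]
  exact (mem_centralizer_singleton_iff.1 (mul_mem (mul_mem (h 0) (h 1)) (h 2))).symm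

/-- An element of `F₀` commutes with an element of `R` when the commutator is in the modules. -/
theorem F0_comm {f r : G} (hf : f ∈ Z.F0) (hr : r ∈ R) (h : ⁅f, r⁆ ∈ Z.AA) : f * r = r * f := by
  obtain ⟨e, c, hc, hrc, -⟩ := Z.exists_zprod (Z.R_le_SS hr)
  obtain ⟨a, ha, hg⟩ := Z.exists_F0 hQ hc
  have hfa : ∀ y ∈ Z.AA, f * y = y * f := fun y hy =>
    (mem_centralizer_iff.1 (mem_inf.1 (mem_inf.1 hf).1).2 y hy).symm
  have hga : ∀ y ∈ Z.AA, (a * c) * y = y * (a * c) := fun y hy =>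
    (mem_centralizer_iff.1 (mem_inf.1 (mem_inf.1 hg).1).2 y hy).symm
  set g := a * c with hgd
  set k := Z.zprod e * a⁻¹ with hkd
  have hrk : r = k * g := by rw [hkd, hgd, hrc]; group
  have hfk : f * k = k * f := by
    calc f * k = (f * Z.zprod e) * a⁻¹ := by rw [hkd]; group
      _ = Z.zprod e * (f * a⁻¹) := by rw [Z.F0_zprod hQ hf]; group
      _ = k * f := by rw [hfa _ (inv_mem ha), hkd]; group
  have hd : ⁅f, g⁆ ∈ Z.F0 := mul_mem (mul_mem (mul_mem hf hg) (inv_mem hf)) (inv_mem hg)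
  have hdk : ⁅f, g⁆ * k = k * ⁅f, g⁆ := by
    calc ⁅f, g⁆ * k = (⁅f, g⁆ * Z.zprod e) * a⁻¹ := by rw [hkd]; group
      _ = Z.zprod e * (⁅f, g⁆ * a⁻¹) := by rw [Z.F0_zprod hQ hd]; group
      _ = k * ⁅f, g⁆ := by
          rw [← mem_centralizer_iff.1 (mem_inf.1 (mem_inf.1 hd).1).2 _ (inv_mem ha), hkd]; group
  have e1 : ⁅f, r⁆ = ⁅f, g⁆ := by
    calc ⁅f, r⁆ = (f * k) * g * f⁻¹ * g⁻¹ * k⁻¹ := by rw [hrk, commutatorElement_def]; group
      _ = k * ⁅f, g⁆ * k⁻¹ := by rw [hfk, commutatorElement_def]; group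
      _ = ⁅f, g⁆ := by rw [← hdk, mul_inv_cancel_right]
  exact commutatorElement_eq_one_iff_mul_comm.1 (Z.F0_inf_AA hQ h (e1 ▸ hd))

/-- A conjugation by `T` maps the centraliser of an image into that of the new one. -/
theorem map_K_le {s : G} (hs : s ∈ (T : Subgroup G)) {i j : Fin 3} {b c : Bool}
    (hd : dd R W (s * Z.N.g i b) = dd R W (Z.N.g j c)) : (Z.K i b).map cj[s] ≤ Z.K j c := by
  rintro _ ⟨y, hy, rfl⟩
  have hsM := Z.P.hTM hs
  have huS : s * y * s⁻¹ ∈ Z.SS := Z.SS_conj hy.1 hs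
  obtain ⟨r, hr, f, hf, e⟩ := Z.exists_RF0 hQ huS
  show s * y * s⁻¹ ∈ Z.K j c
  refine ⟨huS, ?_⟩
  rw [e]
  obtain ⟨hfS, hfA⟩ := mem_inf.1 (mem_inf.1 hf).1
  -- `f` centralises both images
  have hfj : f ∈ centralizer (img W (Z.N.g j c) : Set G) := mem_centralizer_iff.2 fun v hv => by
    cases c
    · exact mem_centralizer_iff.1 hfA v (Z.img_le_AA j hv)
    · have hL : Z.L j * f = f * Z.L j := mem_centralizer_iff.1 hfA _ (Z.L_mem_AA j)
      rcases Z.mem_W (b := true) hv with rfl | rfl | rfl | rfl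
      · rw [one_mul, mul_one]
      · exact hL
      · exact (Z.F0_z hQ hf j).symm
      · rw [mul_assoc, show Z.mb j true * f = f * Z.mb j true from (Z.F0_z hQ hf j).symm,
          ← mul_assoc, hL, mul_assoc]
  have hne : ¬ Apart W (s * Z.N.g i b) (Z.N.g j !c) := fun h' => Z.N.own j c
    ((Z.w.apart_congr (Z.N.mem j !c) hd).1 h'.symm).symm
  have hmemk : s * Z.N.g i b ∈ M := mul_mem hsM (Z.N.mem i b)
  have hLs : s * Z.L i * s⁻¹ = Z.L j := by
    have h1 : s * Z.L i * s⁻¹ ∈ img W (s * Z.N.g i b) := by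
      rw [← img_img]; exact ⟨_, Z.L_mem i b, rfl⟩
    have h2 : s * Z.L i * s⁻¹ ≠ 1 := fun e' => Z.L_ne i (conj_eq_one_iff.1 e')
    have h3 := Z.w.conj_cent hsM (Z.L_cent i)
    exact fixed_unique Z.P Z.w Z.fo (Z.N.mem j !c)
      (fixed_mem_of_moving Z.P Z.w Z.fo hmemk (Z.N.mem j !c) hne h1 h2 h3) (Z.L_mem j !c) h2
      (Z.L_ne j) h3 (Z.L_cent j)
  have hsf : s⁻¹ * f * s ∈ Z.SS := by
    have := Z.SS_conj hfS (inv_mem hs)
    rwa [inv_inv] at this
  have hfs : f ∈ centralizer (img W (s * Z.N.g i b) : Set G) := by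
    have hm : f * (s * Z.mb i b * s⁻¹) = s * Z.mb i b * s⁻¹ * f := by
      refine Z.F0_comm hQ hf (Z.w.img_le_R hmemk (by rw [← img_img]; exact ⟨_, Z.mb_mem i b, rfl⟩)) ?_
      have hL : (s⁻¹ * f * s) * Z.L i * (s⁻¹ * f * s)⁻¹ = Z.L i := Z.SS_fix_L hsf i
      rcases Z.mem_W ((mem_normalizer_iff.1 (Z.SS_norm hsf i b).2 _).1 (Z.mb_mem i b)) with
        e' | e' | e' | e'
      · exact absurd (conj_eq_one_iff.1 e') (Z.mb_ne i b).1
      · exact absurd (mul_left_cancel (mul_right_cancel (e'.trans hL.symm))).symm (Z.mb_ne i b).2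
      all_goals
        rw [commutatorElement_def, show f * (s * Z.mb i b * s⁻¹) * f⁻¹ =
          s * (s⁻¹ * f * s * Z.mb i b * (s⁻¹ * f * s)⁻¹) * s⁻¹ by group, e']
      · rw [mul_inv_cancel]; exact one_mem _
      · rw [show s * (Z.L i * Z.mb i b) * s⁻¹ * (s * Z.mb i b * s⁻¹)⁻¹ = s * Z.L i * s⁻¹ by group,
          hLs]
        exact Z.L_mem_AA j
    refine mem_centralizer_iff.2 fun v hv => ?_
    rw [← img_img] at hv
    obtain ⟨u, hu, rfl⟩ := hv
    have hL : f * Z.L j = Z.L j * f := (mem_centralizer_iff.1 hfA _ (Z.L_mem_AA j)).symm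
    show s * u * s⁻¹ * f = f * (s * u * s⁻¹)
    rcases Z.mem_W hu with rfl | rfl | rfl | rfl
    · simp
    · rw [hLs, hL]
    · exact hm.symm
    · calc s * (Z.L i * Z.mb i b) * s⁻¹ * f
          = (s * Z.L i * s⁻¹) * ((s * Z.mb i b * s⁻¹) * f) := by group
        _ = Z.L j * (f * (s * Z.mb i b * s⁻¹)) := by rw [hLs, hm]
        _ = f * Z.L j * (s * Z.mb i b * s⁻¹) := by rw [hL]; group
        _ = _ := by rw [← hLs]; group
  have hu : s * y * s⁻¹ ∈ centralizer (img W (s * Z.N.g i b) : Set G) := by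
    refine mem_centralizer_iff.2 fun v hv => ?_
    rw [← img_img] at hv
    obtain ⟨u, hu, rfl⟩ := hv
    have := mem_centralizer_iff.1 hy.2 u hu
    show s * u * s⁻¹ * (s * y * s⁻¹) = s * y * s⁻¹ * (s * u * s⁻¹)
    calc _ = s * (u * y) * s⁻¹ := by group
      _ = s * (y * u) * s⁻¹ := by rw [this]
      _ = _ := by group
  have hrd : r ∈ dd R W (s * Z.N.g i b) := by
    refine ⟨hr, ?_⟩
    have := mul_mem hu (inv_mem hfs)
    rwa [e, mul_inv_cancel_right] at this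
  rw [hd] at hrd
  exact mul_mem hrd.2 hfj

omit hQ in
/-- The six centralisers are different. -/
theorem K_le_imp {i j : Fin 3} {b c : Bool} (h : Z.K i b ≤ Z.K j c) : i = j ∧ b = c := by
  by_contra hne
  set u := Z.mb j !c
  have hu : u ∈ img W (Z.N.g j !c) := Z.mb_mem j _
  have huK : u ∈ Z.K i b := by
    refine ⟨Z.R_le_SS (Z.R_of_img hu), mem_centralizer_iff.2 fun v hv => ?_⟩
    by_cases hij : i = j
    · subst hij
      obtain rfl : b = !c := by cases b <;> cases c <;> simp at hne ⊢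
      exact Z.img_comm i _ hv hu
    · exact Z.cross_comm hij b (!c) hv hu
  have h2 := mem_centralizer_iff.1 (h huK).2 _ (Z.mb_mem j c)
  have h3 : Z.zz' j * Z.mb j false = Z.mb j false * Z.zz' j := by
    cases c
    · exact h2.symm
    · exact h2
  have := Z.z_conj j
  rw [h3, mul_inv_cancel_right] at this
  exact Z.L_ne j (right_eq_mul.1 this)

theorem map_K_eq {s : G} (hs : s ∈ (T : Subgroup G)) {i j : Fin 3} {b c : Bool}
    (hd : dd R W (s * Z.N.g i b) = dd R W (Z.N.g j c)) : (Z.K i b).map cj[s] = Z.K j c := by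
  refine le_antisymm (Z.map_K_le hQ hs hd) fun y hy => ?_
  have h' : dd R W (s⁻¹ * Z.N.g j c) = dd R W (Z.N.g i b) := by
    have := Z.w.dd_mul_congr (inv_mem (Z.P.hTM hs)) hd.symm
    rwa [inv_mul_cancel_left] at this
  refine ⟨_, Z.map_K_le hQ (inv_mem hs) h' ⟨y, hy, rfl⟩, ?_⟩
  show s * (s⁻¹ * y * s⁻¹⁻¹) * s⁻¹ = y
  group

/-- An element exchanging the involutions modulo the kernel permutes the six centralisers. -/
theorem map_K_perm {π : G} {σ : Fin 3 → Fin 3} (hσ : ∀ i, σ (σ i) = i)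
    (hπA : π ∈ normalizer (Z.AA : Set G)) (hπF : ∀ f ∈ Z.F0, π * f = f * π)
    (hz : ∀ i, π * Z.zz' i * π⁻¹ * (Z.zz' (σ i))⁻¹ ∈ Z.FF) :
    π ∈ normalizer (Z.SS : Set G) ∧ ∀ i b, (Z.K i b).map cj[π] = Z.K (σ i) b := by
  have himgA : ∀ a ∈ Z.AA, π * a * π⁻¹ ∈ Z.AA := fun a ha => (mem_normalizer_iff.1 hπA a).1 ha
  have himgF : ∀ f ∈ Z.F0, π * f * π⁻¹ = f := fun f hf => by
    rw [hπF f hf, mul_inv_cancel_right]
  have himgFF : ∀ c ∈ Z.FF, π * c * π⁻¹ ∈ Z.FF := by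
    intro c hc
    obtain ⟨a, ha, hf⟩ := Z.exists_F0 hQ hc
    rw [show π * c * π⁻¹ = (π * a * π⁻¹)⁻¹ * (π * (a * c) * π⁻¹) by group, himgF _ hf]
    exact mul_mem (inv_mem (Z.AA_le_FF (himgA a ha))) hf.1
  -- the correction
  obtain ⟨ζ, hζd⟩ : ∃ ζ : Fin 3 → G, ∀ i, ζ i = π * Z.zz' i * π⁻¹ * (Z.zz' (σ i))⁻¹ :=
    ⟨_, fun _ => rfl⟩
  have hζ : ∀ i, π * Z.zz' i * π⁻¹ = ζ i * Z.zz' (σ i) := fun i => by
    rw [hζd, inv_mul_cancel_right]
  replace hz : ∀ i, ζ i ∈ Z.FF := fun i => by rw [hζd]; exact hz i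
  have hζF : ∀ i, ∀ f ∈ Z.F0, ζ i * f = f * ζ i := by
    intro i f hf
    have h1 : (π * Z.zz' i * π⁻¹) * f = f * (π * Z.zz' i * π⁻¹) := by
      have h2 := congrArg (fun y => π * y * π⁻¹) (Z.F0_z hQ hf i)
      calc (π * Z.zz' i * π⁻¹) * f = π * Z.zz' i * π⁻¹ * (π * f * π⁻¹) := by rw [himgF f hf]
        _ = π * (Z.zz' i * f) * π⁻¹ := by group
        _ = π * (f * Z.zz' i) * π⁻¹ := h2.symm
        _ = (π * f * π⁻¹) * (π * Z.zz' i * π⁻¹) := by group
        _ = _ := by rw [himgF f hf]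
    have h3 : (Z.zz' (σ i))⁻¹ * f = f * (Z.zz' (σ i))⁻¹ :=
      (Commute.inv_left (a := Z.zz' (σ i)) (b := f) (Z.F0_z hQ hf (σ i)).symm).eq
    calc ζ i * f = π * Z.zz' i * π⁻¹ * ((Z.zz' (σ i))⁻¹ * f) := by rw [hζd]; group
      _ = (π * Z.zz' i * π⁻¹ * f) * (Z.zz' (σ i))⁻¹ := by rw [h3]; group
      _ = f * ζ i := by rw [h1]; rw [hζd]; group
  have hζFF : ∀ i, ∀ c ∈ Z.FF, ζ i * c = c * ζ i := by
    intro i c hc
    obtain ⟨a, ha, hf⟩ := Z.exists_F0 hQ hc
    have h1 : ζ i * a⁻¹ = a⁻¹ * ζ i :=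
      (mem_centralizer_iff.1 (mem_inf.1 (hz i)).2 a⁻¹ (inv_mem ha)).symm
    calc ζ i * c = (ζ i * a⁻¹) * (a * c) := by group
      _ = a⁻¹ * (ζ i * (a * c)) := by rw [h1]; group
      _ = a⁻¹ * ((a * c) * ζ i) := by rw [hζF i _ hf]
      _ = _ := by group
  have hζz : ∀ i k, Z.zz' (σ k) * ζ i = ζ i * Z.zz' (σ k) := by
    intro i k
    have hzc : Z.zz' (σ i) * Z.zz' (σ k) = Z.zz' (σ k) * Z.zz' (σ i) := Z.frame.zz _ _
    have hcm : (π * Z.zz' i * π⁻¹) * (π * Z.zz' k * π⁻¹) =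
        (π * Z.zz' k * π⁻¹) * (π * Z.zz' i * π⁻¹) := by
      rw [show ∀ a b : G, π * a * π⁻¹ * (π * b * π⁻¹) = π * (a * b) * π⁻¹ from fun a b => by group,
        show ∀ a b : G, π * a * π⁻¹ * (π * b * π⁻¹) = π * (a * b) * π⁻¹ from fun a b => by group,
        show Z.zz' i * Z.zz' k = Z.zz' k * Z.zz' i from Z.frame.zz i k]
    rw [hζ, hζ] at hcm
    rcases eq_or_ne (σ i) (σ k) with hik | hik
    · obtain rfl : i = k := by rw [← hσ i, hik, hσ]
      -- an involution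
      have hsq : (ζ i * Z.zz' (σ i)) * (ζ i * Z.zz' (σ i)) = 1 := by
        rw [← hζ, show π * Z.zz' i * π⁻¹ * (π * Z.zz' i * π⁻¹) = π * (Z.zz' i * Z.zz' i) * π⁻¹ by
          group, show Z.zz' i * Z.zz' i = 1 from Z.frame.zsq i, mul_one, mul_inv_cancel]
      have hzi : (Z.zz' (σ i))⁻¹ = Z.zz' (σ i) := inv_eq_of_mul_eq_one_left (Z.frame.zsq (σ i))
      rcases Z.FF_z hQ (hz i) (σ i) with h | h
      · exact mul_inv_eq_iff_eq_mul.1 h
      · exfalso
        change Z.zz' (σ i) * ζ i * (Z.zz' (σ i))⁻¹ = Z.L (σ i) * ζ i at h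
        rw [hzi] at h
        have h2 : ζ i * (Z.L (σ i) * ζ i) = 1 := by rw [← h, ← hsq]; group
        obtain ⟨a, ha, hf⟩ := Z.exists_F0 hQ (hz i)
        change a * ζ i ∈ Z.F0 at hf
        set L := Z.L (σ i)
        have hLm : L ∈ Z.AA := Z.L_mem_AA _
        have hLζ : ζ i * L = L * ζ i :=
          (mem_centralizer_iff.1 (mem_inf.1 (hz i)).2 _ hLm).symm
        have haζ : ζ i * a = a * ζ i := (mem_centralizer_iff.1 (mem_inf.1 (hz i)).2 _ ha).symm
        have h3 : (a * ζ i) * (a * ζ i) = L := by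
          have h4 : L * (ζ i * ζ i) = 1 := by
            calc L * (ζ i * ζ i) = L * ζ i * ζ i := by group
              _ = ζ i * L * ζ i := by rw [hLζ]
              _ = 1 := by rw [mul_assoc, h2]
          calc a * ζ i * (a * ζ i) = a * (ζ i * a) * ζ i := by group
            _ = (a * a) * (ζ i * ζ i) := by rw [haζ]; group
            _ = ζ i * ζ i := by rw [Z.frame.sq_A ha, one_mul]
            _ = L⁻¹ := (inv_eq_of_mul_eq_one_right h4).symm
            _ = L := Z.frame.inv_A hLm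
        have hL0 : L ∈ Z.F0 := by rw [← h3]; exact mul_mem hf hf
        exact Z.L_ne _ (Z.F0_inf_AA hQ hLm hL0)
    · have hcz : ζ i * ζ k = ζ k * ζ i := hζFF i _ (hz k)
      -- compare the two products
      have e1 : ζ i * (Z.zz' (σ i) * ζ k * (Z.zz' (σ i))⁻¹) =
          ζ k * (Z.zz' (σ k) * ζ i * (Z.zz' (σ k))⁻¹) := by
        refine mul_right_cancel (b := Z.zz' (σ i) * Z.zz' (σ k)) ?_
        calc _ = ζ i * Z.zz' (σ i) * (ζ k * Z.zz' (σ k)) := by group
          _ = ζ k * Z.zz' (σ k) * (ζ i * Z.zz' (σ i)) := hcm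
          _ = ζ k * (Z.zz' (σ k) * ζ i * (Z.zz' (σ k))⁻¹) * (Z.zz' (σ k) * Z.zz' (σ i)) := by group
          _ = _ := by rw [hzc]
      rcases Z.FF_z hQ (hz i) (σ k) with h | h
      · exact mul_inv_eq_iff_eq_mul.1 h
      · exfalso
        change Z.zz' (σ k) * ζ i * (Z.zz' (σ k))⁻¹ = Z.L (σ k) * ζ i at h
        have hLi : ζ i * Z.L (σ i) = Z.L (σ i) * ζ i :=
          (mem_centralizer_iff.1 (mem_inf.1 (hz i)).2 _ (Z.L_mem_AA _)).symm
        have hLk : ζ k * Z.L (σ k) = Z.L (σ k) * ζ k :=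
          (mem_centralizer_iff.1 (mem_inf.1 (hz k)).2 _ (Z.L_mem_AA _)).symm
        rcases Z.FF_z hQ (hz k) (σ i) with h' | h'
        · change Z.zz' (σ i) * ζ k * (Z.zz' (σ i))⁻¹ = ζ k at h'
          rw [h, h', ← mul_assoc, hLk, mul_assoc, ← hcz] at e1
          exact Z.L_ne _ (mul_eq_right.1 e1.symm)
        · change Z.zz' (σ i) * ζ k * (Z.zz' (σ i))⁻¹ = Z.L (σ i) * ζ k at h'
          rw [h, h', ← mul_assoc, hLi, mul_assoc, ← mul_assoc (ζ k), hLk, mul_assoc, ← hcz] at e1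
          have hLL : Z.L (σ i) = Z.L (σ k) := mul_right_cancel e1
          have hmem := img_inf_eq_bot Z.P Z.w Z.fo Z.N hik false false
          exact Z.L_ne (σ k) (mem_bot.1 (hmem.le ⟨hLL ▸ Z.L_mem (σ i) false, Z.L_mem (σ k) false⟩))
  have hζS : ∀ i, ∀ s ∈ Z.SS, ζ i * s = s * ζ i := by
    intro i s hs
    obtain ⟨e, c, hc, rfl, -⟩ := Z.exists_zprod hs
    have hf : ∀ j, ζ i * Z.zfac e j = Z.zfac e j * ζ i := fun j => by
      unfold zfac
      split_ifs
      · rw [← hσ j]; exact (hζz i (σ j)).symm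
      · rw [one_mul, mul_one]
    have hp : ζ i * Z.zprod e = Z.zprod e * ζ i :=
      ((Commute.mul_right (a := ζ i) (hf 0) (hf 1)).mul_right (hf 2)).eq
    rw [← mul_assoc, hp, mul_assoc, hζFF i c hc, mul_assoc]
  have hSz : ∀ i, π * Z.zz' i * π⁻¹ ∈ Z.SS := fun i => by
    rw [hζ]
    exact mul_mem (mem_inf.1 (hz i)).1 (Z.z_mem_SS _)
  have hconj : ∀ s ∈ Z.SS, π * s * π⁻¹ ∈ Z.SS := by
    intro s hs
    obtain ⟨e, c, hc, rfl, -⟩ := Z.exists_zprod hs
    have hf : ∀ j, π * Z.zfac e j * π⁻¹ ∈ Z.SS := fun j => by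
      unfold zfac
      split_ifs
      · exact hSz j
      · simp
    rw [show π * (Z.zprod e * c) * π⁻¹ = (π * Z.zfac e 0 * π⁻¹) * (π * Z.zfac e 1 * π⁻¹) *
      (π * Z.zfac e 2 * π⁻¹) * (π * c * π⁻¹) by rw [zprod]; group]
    exact mul_mem (mul_mem (mul_mem (hf 0) (hf 1)) (hf 2)) (mem_inf.1 (himgFF c hc)).1
  have hle : ∀ i b, (Z.K i b).map cj[π] ≤ Z.K (σ i) b := by
    rintro i b _ ⟨y, hy, rfl⟩
    show π * y * π⁻¹ ∈ Z.K (σ i) b
    refine ⟨hconj y hy.1, mem_centralizer_iff.2 fun v hv => ?_⟩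
    suffices hm : π * y * π⁻¹ * Z.mb (σ i) b = Z.mb (σ i) b * (π * y * π⁻¹) by
      have hL : π * y * π⁻¹ * Z.L (σ i) = Z.L (σ i) * (π * y * π⁻¹) :=
        mul_inv_eq_iff_eq_mul.1 (Z.SS_fix_L (hconj y hy.1) (σ i))
      rcases Z.mem_W hv with rfl | rfl | rfl | rfl
      · rw [one_mul, mul_one]
      · exact hL.symm
      · exact hm.symm
      · rw [mul_assoc, ← hm, ← mul_assoc, ← hL, mul_assoc]
    cases b
    · obtain ⟨e, c, hc, hyc, he⟩ := Z.exists_zprod hy.1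
      have hei : e i = false := (he i).2 (mem_centralizer_iff.1 hy.2 _ (Z.mb_mem i false)).symm
      have hf : ∀ j, π * Z.zfac e j * π⁻¹ ∈ centralizer ({Z.mb (σ i) false} : Set G) := fun j => by
        rw [mem_centralizer_singleton_iff]
        unfold zfac
        split_ifs with hj
        · have hji : σ j ≠ σ i := fun h => by
            have h' := congrArg σ h
            rw [hσ, hσ] at h'
            rw [h', hei] at hj
            exact Bool.false_ne_true hj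
          rw [hζ]
          calc ζ j * Z.zz' (σ j) * Z.mb (σ i) false = ζ j * (Z.mb (σ i) false * Z.zz' (σ j)) := by
                rw [mul_assoc, Z.cross_comm hji true false (Z.mb_mem _ true) (Z.mb_mem _ false)]
            _ = Z.mb (σ i) false * (ζ j * Z.zz' (σ j)) := by
                rw [← mul_assoc, ← mem_centralizer_iff.1 (mem_inf.1 (hz j)).2 _ (Z.m_mem_AA _),
                  mul_assoc]
        · simp
      have hc' : π * c * π⁻¹ ∈ centralizer ({Z.mb (σ i) false} : Set G) := by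
        rw [mem_centralizer_singleton_iff]
        exact (mem_centralizer_iff.1 (mem_inf.1 (himgFF c hc)).2 _ (Z.m_mem_AA _)).symm
      have := mul_mem (mul_mem (mul_mem (hf 0) (hf 1)) (hf 2)) hc'
      rw [show π * Z.zfac e 0 * π⁻¹ * (π * Z.zfac e 1 * π⁻¹) * (π * Z.zfac e 2 * π⁻¹) *
          (π * c * π⁻¹) = π * (Z.zprod e * c) * π⁻¹ by rw [zprod]; group, ← hyc,
        mem_centralizer_singleton_iff] at this
      exact this
    · have h1 : π * y * π⁻¹ * (ζ i * Z.zz' (σ i)) = ζ i * Z.zz' (σ i) * (π * y * π⁻¹) := by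
        rw [← hζ]
        calc π * y * π⁻¹ * (π * Z.zz' i * π⁻¹) = π * (y * Z.zz' i) * π⁻¹ := by group
          _ = π * (Z.zz' i * y) * π⁻¹ := by rw [mem_centralizer_iff.1 hy.2 _ (Z.mb_mem i true)]
          _ = _ := by group
      show π * y * π⁻¹ * Z.zz' (σ i) = Z.zz' (σ i) * (π * y * π⁻¹)
      refine mul_left_cancel (a := ζ i) ?_
      calc ζ i * (π * y * π⁻¹ * Z.zz' (σ i)) = (ζ i * (π * y * π⁻¹)) * Z.zz' (σ i) := by group
        _ = π * y * π⁻¹ * (ζ i * Z.zz' (σ i)) := by rw [hζS i _ (hconj y hy.1)]; group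
        _ = _ := by rw [h1]; group
  refine ⟨mem_normalizer_iff_map_conj_eq.2 (eq_of_le_of_card_ge ?_
    (Subgroup.card_map_of_injective (MulAut.conj π).injective).ge), fun i b => ?_⟩
  · rintro _ ⟨s, hs, rfl⟩
    exact hconj s hs
  · refine eq_of_le_of_card_ge (hle i b) ?_
    have h1 := Subgroup.card_le_of_le (hle (σ i) b)
    rw [hσ, Subgroup.card_map_of_injective (MulAut.conj π).injective] at h1
    rwa [Subgroup.card_map_of_injective (MulAut.conj π).injective]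

theorem T_le_normalizer : (T : Subgroup G) ≤ normalizer (Z.SS : Set G) := fun u hu =>
  mem_normalizer_iff_map_conj_eq.2 (eq_of_le_of_card_ge
    (by rintro _ ⟨s, hs, rfl⟩; exact Z.SS_conj hs hu)
    (Subgroup.card_map_of_injective (MulAut.conj u).injective).ge)

end Setting

end Cfsg.Agent.QtkePush.AThree
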