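import Mathlib.Data.Nat.Bitwise
import Mathlib.Data.List.Range
import Mathlib.Data.Fintype.Basic

/-!
# The sixteen actions on six bits

Bits `2i` and `2i+1` stand for the fixed and the moved involution of the module with index `i`.
-/

set_option autoImplicit false

namespace Cfsg.Agent.QtkePush.AThree.Model

/-- The coefficient: does the element of index `i` move the involution of index `j`? -/
def bit (p q r s : Bool) : ℕ → ℕ → Bool
  | 0, 1 => p
  | 1, 0 => q
  | 0, 2 => r
  | 2, 0 => s
  | _, _ => false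

/-- Extend the values on the six bits linearly. -/
def lin (r : ℕ → ℕ) (v : ℕ) : ℕ :=
  [0, 1, 2, 3, 4, 5].foldr (fun k acc => if v.testBit k then r k ^^^ acc else acc) 0

/-- The element of order three of index `i` on the bits. -/
def xRow (a : ℕ → ℕ → Bool) (i k : ℕ) : ℕ :=
  if k = 2 * i then 1 <<< (2 * i + 1)
  else if k = 2 * i + 1 then (1 <<< (2 * i)) ^^^ (1 <<< (2 * i + 1))
  else if k % 2 = 0 then 1 <<< k
  else if a i (k / 2) then (1 <<< k) ^^^ ((1 <<< (2 * i)) ^^^ (1 <<< (2 * i + 1)))
  else 1 <<< k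

/-- The element of order three of index `i`. -/
def xMap (a : ℕ → ℕ → Bool) (i : ℕ) : ℕ → ℕ := lin (xRow a i)

/-- The involution of index `i`. -/
def zMap (i : ℕ) : ℕ → ℕ :=
  lin fun k => if k = 2 * i + 1 then (1 <<< k) ^^^ (1 <<< (2 * i)) else 1 <<< k

/-- The steps of the word for a configuration without a double edge. -/
def word (p q r s : Bool) : List (ℕ × Bool) :=
  if p || q then
    if r || s then [(1, true), (2, true), (0, true), (1, true), (2, true), (0, true), (1, false),
      (2, false), (0, true)]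
    else [(1, true), (0, true), (1, true), (0, true), (1, false), (0, true)]
  else if r || s then [(2, true), (0, true), (2, true), (0, true), (2, false), (0, true)]
  else []

/-- The word as a map. -/
def wordMap (f : ℕ → ℕ → ℕ) (l : List (ℕ × Bool)) : ℕ → ℕ :=
  l.foldl (fun y kb => if kb.2 then f kb.1 ∘ y ∘ f kb.1 ∘ f kb.1 else f kb.1 ∘ f kb.1 ∘ y ∘ f kb.1)
    (f 0)

/-- Composition power. -/
def iter (f : ℕ → ℕ) : ℕ → ℕ → ℕ
  | 0, v => v
  | k + 1, v => f (iter f k v)

/-- Without a double edge the word is a third independent commuting element. -/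
theorem word_spec : ∀ p q r s : Bool, (p && q) = false → (r && s) = false →
    (∀ k : Fin 6, wordMap (xMap (bit p q r s)) (word p q r s) (xMap (bit p q r s) 1 (1 <<< (k : ℕ))) =
        xMap (bit p q r s) 1 (wordMap (xMap (bit p q r s)) (word p q r s) (1 <<< (k : ℕ))) ∧
      wordMap (xMap (bit p q r s)) (word p q r s) (xMap (bit p q r s) 2 (1 <<< (k : ℕ))) =
        xMap (bit p q r s) 2 (wordMap (xMap (bit p q r s)) (word p q r s) (1 <<< (k : ℕ)))) ∧
    ∀ i j l : Fin 3, (∀ k : Fin 6,
      iter (xMap (bit p q r s) 1) i (iter (xMap (bit p q r s) 2) j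
        (iter (wordMap (xMap (bit p q r s)) (word p q r s)) l (1 <<< (k : ℕ)))) = 1 <<< (k : ℕ)) →
      i = 0 ∧ j = 0 ∧ l = 0 := by
  decide +kernel

/-- The palindrome exchanging the two involutions of a double edge. -/
def swapMap (f : ℕ → ℕ → ℕ) (t : ℕ) : ℕ → ℕ := f 0 ∘ f t ∘ f 0 ∘ f t ∘ f 0

/-- The index of the other pair. -/
def sig (t : ℕ) (i : ℕ) : ℕ := if i = 0 then t else if i = t then 0 else i

/-- With a double edge the palindrome exchanges the involutions. -/
theorem swap_spec : ∀ p q r s : Bool, ∀ t : Fin 3, t ≠ 0 →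
    bit p q r s 0 t = true → bit p q r s t 0 = true → ∀ (i : Fin 3) (k : Fin 6),
      swapMap (xMap (bit p q r s)) t (zMap i (1 <<< (k : ℕ))) =
        zMap (sig t i) (swapMap (xMap (bit p q r s)) t (1 <<< (k : ℕ))) := by
  decide +kernel

/-- Only zero is fixed by the three elements of a double edge configuration. -/
theorem fixed_spec : ∀ p q r s : Bool, ((p && q) || (r && s)) = true → ∀ v : Fin 64,
    (∀ i : Fin 3, xMap (bit p q r s) i (v : ℕ) = v) → v = 0 := by
  decide +kernel

/-- The three commutator maps reach every target. -/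
theorem solve_spec : ∀ p q r s : Bool, ((p && q) || (r && s)) = true → ∀ w : Fin 64, ∃ v : Fin 64,
    ∀ i : Fin 3, xMap (bit p q r s) i (v : ℕ) ^^^ (v : ℕ) =
      (w : ℕ) &&& (3 <<< (2 * (i : ℕ))) := by
  decide +kernel

/-- The commutator with an involution. -/
theorem z_spec : ∀ (i : Fin 3) (v : Fin 64), zMap i (v : ℕ) ^^^ (v : ℕ) =
    if Nat.testBit v (2 * (i : ℕ) + 1) then 1 <<< (2 * (i : ℕ)) else 0 := by
  decide +kernel

/-- The commutator with an element of order three on the fixed involutions. -/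
theorem x_spec : ∀ p q r s : Bool, ∀ (i : Fin 3) (v : Fin 64),
    (∀ j : Fin 3, Nat.testBit v (2 * (j : ℕ) + 1) = false) →
      xMap (bit p q r s) i (v : ℕ) ^^^ (v : ℕ) =
        if Nat.testBit v (2 * (i : ℕ)) then 3 <<< (2 * (i : ℕ)) else 0 := by
  decide +kernel

/-- The word uses the three indices only. -/
theorem word_lt : ∀ p q r s : Bool, ∀ kb ∈ word p q r s, kb.1 < 3 := by
  decide +kernel

/-- A vector without odd and even bits is zero. -/
theorem zero_spec : ∀ v : Fin 64, (∀ j : Fin 3, Nat.testBit v (2 * (j : ℕ) + 1) = false) →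
    (∀ j : Fin 3, Nat.testBit v (2 * (j : ℕ)) = false) → v = 0 := by
  decide +kernel

/-- The maps stay below `64`. -/
theorem lt_spec : ∀ p q r s : Bool, ∀ (i : Fin 3) (k : Fin 6),
    xRow (bit p q r s) i k < 64 := by
  decide +kernel

end Cfsg.Agent.QtkePush.AThree.Model
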